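import Groth.Agent.KoszDiv.Same
import Groth.Agent.KoszShX.Basic
import Groth.Agent.LC.Sop
import Groth.Agent.LC.GorLoc
import Groth.Agent.H9DSeq.Basic
import Groth.Agent.H4Dim.EssLocal
import Groth.Agent.RegImmLib.RegStalk

/-!
# Complete intersections of the expected codimension in Cohen–Macaulay schemes
-/

set_option linter.style.haveILetI false
set_option linter.unusedSectionVars false
set_option backward.isDefEq.respectTransparency false
set_option backward.isDefEq.respectTransparency.types false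
set_option autoImplicit false

universe u

open CategoryTheory CategoryTheory.Limits AlgebraicGeometry TopologicalSpace Opposite
open RingTheory.Sequence

noncomputable section

namespace Groth.Agent.KoszDiv

/-- `c` elements generating an ideal of height at least `c` in a Cohen–Macaulay local ring are regular. -/
theorem isWeaklyRegular_of_height {R : Type u} [CommRing R] [LocCoh.IsCohenMacaulayLocalRing R] {c : ℕ}
    (f : Fin c → R) (hm : ∀ i, f i ∈ IsLocalRing.maximalIdeal R)
    (hh : (c : ℕ∞) ≤ (Ideal.span (Set.range f)).height) : IsWeaklyRegular R (List.ofFn f) := by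
  let I := Ideal.span (Set.range f)
  have hle : I ≤ IsLocalRing.maximalIdeal R := Ideal.span_le.2 (Set.range_subset_iff.2 hm)
  have hI : I ≠ ⊤ := fun h => (IsLocalRing.maximalIdeal.isMaximal R).ne_top (top_le_iff.1 (h ▸ hle))
  have hI' : I = Ideal.ofList (List.ofFn f) := congrArg Ideal.span (Set.ext fun x => by simp)
  have hc : I.height = c :=
    le_antisymm (by simpa using H9DSeq.height_le_length I hI _ hI') hh
  obtain ⟨D, hD⟩ := LC.exists_supportDim_eq_nat (R := R) R
  rw [Module.supportDim_self_eq_ringKrullDim] at hD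
  haveI : Nontrivial (R ⧸ I) := Ideal.Quotient.nontrivial_iff.2 hI
  obtain ⟨d, hd⟩ := LC.exists_supportDim_eq_nat (R := R) (R ⧸ I)
  rw [Module.supportDim_quotient_eq_ringKrullDim] at hd
  have hsum := LC.height_add_ringKrullDim_quotient I hI
  rw [hc, hd, hD] at hsum
  have hdc : d + c = D := by exact_mod_cast hsum
  obtain ⟨x, hxm, hx⟩ := H4Dim.exists_sop I hle d hd.le
  have h := LC.isWeaklyRegular_of_sop LocCoh.IsCohenMacaulayLocalRing.supportDim_eq_depth D hD
    (List.ofFn f ++ List.ofFn x) (by simp; omega) (by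
      rw [Ideal.ofList_append, ← hI', show Ideal.ofList (List.ofFn x) = Ideal.span (Set.range x) from
        congrArg Ideal.span (Set.ext fun z => by simp)]
      refine le_antisymm ?_ hx
      exact (IsLocalRing.maximalIdeal.isMaximal R).isPrime.radical_le_iff.2
        (sup_le hle (Ideal.span_le.2 (Set.range_subset_iff.2 hxm))))
  exact ((isWeaklyRegular_append_iff R _ _).1 h).1

/-- A sequence regular at a prime is regular on a basic neighbourhood. -/
theorem exists_away_weaklyRegular {R : Type u} [CommRing R] [IsNoetherianRing R] (p : Ideal R) [p.IsPrime]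
    (A : Type u) [CommRing A] [Algebra R A] [IsLocalization.AtPrime A p] {c : ℕ} (a : Fin c → R)
    (hreg : IsWeaklyRegular A (List.ofFn fun i => algebraMap R A (a i))) :
    ∃ g : R, g ∉ p ∧ ∀ (B : Type u) [CommRing B] [Algebra R B] [IsLocalization.Away g B],
      IsWeaklyRegular B (List.ofFn fun i => algebraMap R B (a i)) := by
  classical
  have htake : ∀ (S : Type u) [CommRing S] [Algebra R S] (k : ℕ),
      (Ideal.ofList ((List.ofFn fun i => algebraMap R S (a i)).take k) • ⊤ : Submodule S S) =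
        (Ideal.ofList ((List.ofFn a).take k)).map (algebraMap R S) := by
    intro S _ _ k
    rw [smul_eq_mul, Ideal.mul_top, Ideal.map_ofList]
    refine congrArg Ideal.ofList ?_
    rw [List.map_take, List.map_ofFn]
    rfl
  let J : Fin c → Ideal R := fun i => Ideal.ofList ((List.ofFn a).take i.1)
  let N : Fin c → Ideal R := fun i => Submodule.comap (LinearMap.mulLeft R (a i)) (J i)
  have hN : ∀ i : Fin c, ∀ b ∈ N i, ∃ t ∉ p, t * b ∈ J i := by
    intro i b hb
    rw [isWeaklyRegular_iff_Fin] at hreg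
    have hr := hreg ⟨i.1, by simp⟩
    have hget : (List.ofFn fun j => algebraMap R A (a j))[(⟨i.1, by simp⟩ :
        Fin (List.ofFn fun j => algebraMap R A (a j)).length)] = algebraMap R A (a i) := by simp
    rw [hget] at hr
    have h3 := isSMulRegular_iff_right_eq_zero_of_smul.1 hr (Submodule.Quotient.mk (algebraMap R A b)) (by
      rw [← Submodule.Quotient.mk_smul, Submodule.Quotient.mk_eq_zero, htake, smul_eq_mul, ← map_mul]
      exact Ideal.mem_map_of_mem _ hb)
    rw [Submodule.Quotient.mk_eq_zero, htake, IsLocalization.mem_map_algebraMap_iff p.primeCompl] at h3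
    obtain ⟨⟨⟨z, hz⟩, s⟩, hs⟩ := h3
    rw [← map_mul, IsLocalization.eq_iff_exists p.primeCompl] at hs
    obtain ⟨d, hd⟩ := hs
    exact ⟨d.1 * s.1, p.primeCompl.mul_mem d.2 s.2, by
      rw [show d.1 * s.1 * b = d.1 * (b * s.1) by ring, hd]
      exact (J i).mul_mem_left _ hz⟩
  have hN' : ∀ i : Fin c, ∃ t ∉ p, ∀ b ∈ N i, t * b ∈ J i := by
    intro i
    obtain ⟨S, hS⟩ := (N i).fg_of_isNoetherianRing
    have hex : ∀ b ∈ S, ∃ t ∉ p, t * b ∈ J i := fun b hb => hN i b (hS ▸ Ideal.subset_span hb)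
    choose! t ht1 ht2 using hex
    refine ⟨∏ b ∈ S, t b, show _ ∈ p.primeCompl from prod_mem fun b hb => ht1 b hb, fun b hb => ?_⟩
    rw [← hS] at hb
    induction hb using Submodule.span_induction with
    | mem b hb =>
      obtain ⟨z, hz⟩ := Finset.dvd_prod_of_mem t hb
      rw [hz, mul_comm (t b), mul_assoc]
      exact (J i).mul_mem_left _ (ht2 b hb)
    | zero => rw [mul_zero]; exact (J i).zero_mem
    | add b z _ _ hb hz => rw [mul_add]; exact (J i).add_mem hb hz
    | smul z b _ hb => rw [smul_eq_mul, mul_left_comm]; exact (J i).mul_mem_left _ hb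
  choose t ht htc using hN'
  let g := ∏ i, t i
  refine ⟨g, show g ∈ p.primeCompl from prod_mem fun i _ => ht i, fun B _ _ _ => ?_⟩
  rw [isWeaklyRegular_iff_Fin]
  intro k
  let i : Fin c := ⟨k.1, by simpa using k.2⟩
  have hget : (List.ofFn fun j => algebraMap R B (a j))[k] = algebraMap R B (a i) := by simp [i]
  rw [hget]
  refine IsSMulRegular.of_right_eq_zero_of_smul fun z hz => ?_
  obtain ⟨z, rfl⟩ := Submodule.Quotient.mk_surjective _ z
  rw [← Submodule.Quotient.mk_smul, Submodule.Quotient.mk_eq_zero, htake, smul_eq_mul] at hz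
  rw [Submodule.Quotient.mk_eq_zero, htake]
  obtain ⟨⟨b, s⟩, hbs⟩ := IsLocalization.surj (Submonoid.powers g) z
  have h1 : algebraMap R B (a i * b) ∈ (J i).map (algebraMap R B) := by
    rw [map_mul, ← hbs, ← mul_assoc]
    exact Ideal.mul_mem_right _ _ hz
  rw [IsLocalization.mem_map_algebraMap_iff (Submonoid.powers g)] at h1
  obtain ⟨⟨⟨w, hw⟩, s'⟩, hs'⟩ := h1
  rw [← map_mul, IsLocalization.eq_iff_exists (Submonoid.powers g)] at hs'
  obtain ⟨d, hd⟩ := hs'
  have h2 : (d.1 * s'.1) * b ∈ N i := by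
    show a i * ((d.1 * s'.1) * b) ∈ J i
    rw [show a i * ((d.1 * s'.1) * b) = d.1 * (a i * b * s'.1) by ring, hd]
    exact (J i).mul_mem_left _ hw
  have hu : IsUnit (algebraMap R B (t i * (d.1 * s'.1))) := by
    rw [map_mul, map_mul]
    exact (isUnit_of_dvd_unit (map_dvd _ (Finset.dvd_prod_of_mem t (Finset.mem_univ i)))
      (IsLocalization.Away.algebraMap_isUnit g)).mul
        ((IsLocalization.map_units B d).mul (IsLocalization.map_units B s'))
  rw [← Ideal.unit_mul_mem_iff_mem _ (IsLocalization.map_units B s), mul_comm, hbs,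
    ← Ideal.unit_mul_mem_iff_mem _ hu, ← map_mul, mul_assoc]
  exact Ideal.mem_map_of_mem _ (htc i _ h2)

/-- Complete intersections of the expected codimension in a Cohen–Macaulay scheme are Koszul regular. -/
theorem koszulRegular_of_cm {X Y : Scheme.{u}} [IsLocallyNoetherian X]
    (hCM : ∀ x : X, LocCoh.IsCohenMacaulayLocalRing (X.presheaf.stalk x))
    (i : Y ⟶ X) [IsClosedImmersion i] (c : ℕ)
    (hgen : ∀ y : Y, ∃ U : X.affineOpens, i.base y ∈ U.1 ∧
      ∃ g : Fin c → Γ(X, U.1), i.ker.ideal U = Ideal.span (Set.range g))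
    (hht : ∀ y : Y, (c : ℕ∞) ≤ (RingHom.ker (i.stalkMap y).hom).height) (y : Y) :
    ∃ U : X.affineOpens, i.base y ∈ U.1 ∧ ∃ f : Fin c → Γ(X, U.1),
      i.ker.ideal U = Ideal.span (Set.range f) ∧ IsWeaklyRegular Γ(X, U.1) (List.ofFn f) := by
  obtain ⟨U, hyU, g, hg⟩ := hgen y
  haveI := hCM (i.base y)
  haveI : IsNoetherianRing Γ(X, U.1) := IsLocallyNoetherian.component_noetherian U
  have hker : RingHom.ker (i.stalkMap y).hom =
      Ideal.span (Set.range fun k => X.presheaf.germ U.1 (i.base y) hyU (g k)) := by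
    rw [RegImmLib.ker_stalkMap_eq_map i U.2 y hyU, ← Scheme.Hom.ker_apply, hg, Ideal.map_span, ← Set.range_comp]
    rfl
  have hm : ∀ k, X.presheaf.germ U.1 (i.base y) hyU (g k) ∈
      IsLocalRing.maximalIdeal (X.presheaf.stalk (i.base y)) := fun k =>
    IsLocalRing.le_maximalIdeal (RingHom.ker_ne_top _) (hker.ge (Ideal.subset_span ⟨k, rfl⟩))
  have hreg := isWeaklyRegular_of_height _ hm (hker ▸ hht y)
  let P := U.2.primeIdealOf ⟨i.base y, hyU⟩
  letI := TopCat.Presheaf.algebra_section_stalk X.presheaf (⟨i.base y, hyU⟩ : U.1)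
  haveI : IsLocalization.AtPrime (X.presheaf.stalk (i.base y)) P.asIdeal := U.2.isLocalization_stalk ⟨i.base y, hyU⟩
  obtain ⟨h, hhP, hh⟩ := exists_away_weaklyRegular P.asIdeal (X.presheaf.stalk (i.base y)) g hreg
  refine ⟨X.affineBasicOpen h, ?_, ?_⟩
  · show i.base y ∈ X.basicOpen h
    exact (QCoh.mem_basicOpen_iff_notMem U.2 hyU h).2 hhP
  let r := X.presheaf.map (homOfLE (X.basicOpen_le h)).op
  refine ⟨fun k => r.hom (g k), ?_, ?_⟩
  · rw [← i.ker.map_ideal (U := X.affineBasicOpen h) (V := U) (X.basicOpen_le h), hg, Ideal.map_span, ← Set.range_comp]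
    rfl
  · letI := r.hom.toAlgebra
    haveI : IsLocalization.Away h Γ(X, X.basicOpen h) := U.2.isLocalization_basicOpen h
    exact hh Γ(X, X.basicOpen h)

/-- The Koszul homology of a regular sequence on an affine scheme. -/
theorem isZero_homology_free {Z : Scheme.{u}} (hZ : IsAffineOpen (⊤ : Z.Opens)) {c : ℕ}
    (a : Fin c → Γ(Z, ⊤)) (ha : IsWeaklyRegular Γ(Z, ⊤) (List.ofFn a))
    (s : free Z c ⟶ Coh.structureModule Z)
    (hs : ∀ k : Fin c, KoszSh.secForm s ⊤
      (secL (Limits.Sigma.ι (fun _ : Fin c => Coh.structureModule Z) k) ⊤ (oneS ⊤)) = a k)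
    (C : KoszSh.Cx (free Z c) s) (q : ℕ) (hq : 1 ≤ q) : IsZero (C.K.homology q) := by
  obtain ⟨p, rfl⟩ : ∃ p, q = p + 1 := ⟨q - 1, by omega⟩
  obtain ⟨b, hb⟩ := exists_basis_free (X := Z) c ⊤
  refine KoszShX.isZero_homology (free_qcoh Z c).1 s (fun x => ⟨⟨⊤, hZ⟩, trivial, b, ?_⟩) C p
  have he : (fun k => KoszSh.secForm s ⊤ (b k)) = a := funext fun k => by rw [hb]; exact hs k
  rw [he]
  exact ha

/-- Regularity is preserved by a ring isomorphism. -/
theorem isWeaklyRegular_equiv {R S : Type u} [CommRing R] [CommRing S] (e : R ≃+* S) {c : ℕ} (f : Fin c → R)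
    (hf : IsWeaklyRegular R (List.ofFn f)) : IsWeaklyRegular S (List.ofFn fun k => e (f k)) := by
  letI := e.toRingHom.toAlgebra
  haveI : Module.Flat R S := Module.Flat.of_linearEquiv ((AlgEquiv.ofRingEquiv (f := e) fun _ => rfl).toLinearEquiv).symm
  have h := hf.of_flat (S := S)
  rw [List.map_ofFn] at h
  exact h

end Groth.Agent.KoszDiv
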