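import Groth.Agent.KoszDiv.Sect
import Groth.Agent.KoszShX.Basic
import Groth.Agent.AmpleFamGen.Basic
import Groth.Agent.ExtPowSh.Loc
import Groth.Agent.Big.Cartier
import Groth.Agent.ConsPropLib.FibreLocFree

/-!
# Twisting a Koszul complex of divisors by a further divisor
-/

set_option linter.style.haveILetI false
set_option linter.unusedSectionVars false
set_option backward.isDefEq.respectTransparency false
set_option backward.isDefEq.respectTransparency.types false
set_option maxHeartbeats 800000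
set_option autoImplicit false

universe u

open CategoryTheory CategoryTheory.Limits AlgebraicGeometry TopologicalSpace Opposite

noncomputable section

attribute [local instance] Groth.Agent.QCoh.hasFiniteBiproducts

namespace Groth.Agent.KoszDiv

open ExtPowSh (appL map_appL resL)

variable {X : Scheme.{u}}

/-- A morphism on sections. -/
def secL {A B : X.Modules} (φ : A ⟶ B) (U : X.Opens) : Γ(A, U) →ₗ[Γ(X, U)] Γ(B, U) where
  toFun s := φ.app U s
  map_add' a b := map_add _ a b
  map_smul' r a := φ.app_smul r a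

theorem mul_ideal (I D : X.IdealSheafData) (U : X.affineOpens) : (I * D).ideal U = I.ideal U * D.ideal U := by
  rw [Scheme.IdealSheafData.ideal_mul, Pi.mul_apply]

theorem exists_incl (I D : X.IdealSheafData) :
    ∃ a : ClSub.idealMod (I * D) ⟶ ClSub.idealMod I, a ≫ ClSub.idealModι I = ClSub.idealModι (I * D) := by
  have h0 : ClSub.idealModι (I * D) ≫ ClSub.toSubscheme I = 0 :=
    ExtPowSh.hom_eq_zero_of_isBasis _ X.isBasis_affineOpens fun U hU s => by
      show secL (ClSub.toSubscheme I) U (secL (ClSub.idealModι (I * D)) U s) = 0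
      have h := OmegaLib.idealSect_mem (I * D) ⟨U, hU⟩ s
      rw [mul_ideal] at h
      have h' := Ideal.mul_le_left h
      rw [← I.ker_subschemeι_app ⟨U, hU⟩, RingHom.mem_ker] at h'
      exact h'
  exact ⟨kernel.lift (ClSub.toSubscheme I) _ h0, kernel.lift_ι _ _ _⟩

/-- The inclusion `I * D ⊆ I`. -/
def incl (I D : X.IdealSheafData) : ClSub.idealMod (I * D) ⟶ ClSub.idealMod I := (exists_incl I D).choose

theorem incl_ι (I D : X.IdealSheafData) : incl I D ≫ ClSub.idealModι I = ClSub.idealModι (I * D) :=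
  (exists_incl I D).choose_spec

theorem idealSect_incl (I D : X.IdealSheafData) (U : X.Opens) (s : Γ(ClSub.idealMod (I * D), U)) :
    OmegaSh.idealSect I U (secL (incl I D) U s) = OmegaSh.idealSect (I * D) U s :=
  congrArg (fun φ : ClSub.idealMod (I * D) ⟶ Coh.structureModule X => fn (secL φ U s)) (incl_ι I D)

section Comp

variable {U : X.Opens} (hU : IsAffineOpen U) {x : Γ(X, U)} (hx : x ∈ nonZeroDivisors Γ(X, U))
  {D : X.IdealSheafData} (hD : D.ideal ⟨U, hU⟩ = Ideal.span {x}) (I : X.IdealSheafData)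

include hU hx hD in
/-- Multiplication by the generator identifies the sections. -/
theorem exists_mul_equiv : ∃ g : Γ(ClSub.idealMod I, U) ≃ₗ[Γ(X, U)] Γ(ClSub.idealMod (I * D), U),
    ∀ s, secL (incl I D) U (g s) = x • s := by
  have h1 : ∀ s : Γ(ClSub.idealMod I, U), ∃ t : Γ(ClSub.idealMod (I * D), U),
      OmegaSh.idealSect (I * D) U t = OmegaSh.idealSect I U s * x := fun s =>
    OmegaLib.exists_of_mem (I * D) ⟨U, hU⟩ _ (by
      rw [mul_ideal, hD]
      exact Ideal.mul_mem_mul (OmegaLib.idealSect_mem I ⟨U, hU⟩ s) (Ideal.mem_span_singleton_self x))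
  choose g hg using h1
  let l : Γ(ClSub.idealMod I, U) →ₗ[Γ(X, U)] Γ(ClSub.idealMod (I * D), U) :=
    { toFun := g
      map_add' := fun a b => OmegaLib.idealSect_injective (I * D) U (by
        rw [map_add, hg, hg, hg, map_add, add_mul])
      map_smul' := fun r a => OmegaLib.idealSect_injective (I * D) U (by
        rw [RingHom.id_apply, OmegaLib.idealSect_smul, hg, hg, OmegaLib.idealSect_smul, mul_assoc]) }
  have hl : Function.Bijective l := by
    refine ⟨fun a b h => OmegaLib.idealSect_injective I U ?_, fun t => ?_⟩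
    · have h' := congrArg (OmegaSh.idealSect (I * D) U) (show g a = g b from h)
      rw [hg, hg] at h'
      exact (mul_cancel_right_mem_nonZeroDivisors hx).1 h'
    · have h := OmegaLib.idealSect_mem (I * D) ⟨U, hU⟩ t
      rw [mul_ideal, hD, Ideal.mem_mul_span_singleton] at h
      obtain ⟨a, ha, hat⟩ := h
      obtain ⟨s, hs⟩ := OmegaLib.exists_of_mem I ⟨U, hU⟩ a ha
      refine ⟨s, OmegaLib.idealSect_injective (I * D) U ?_⟩
      show OmegaSh.idealSect (I * D) U (g s) = _
      rw [hg, hs]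
      exact hat
  refine ⟨LinearEquiv.ofBijective l hl, fun s => OmegaLib.idealSect_injective I U ?_⟩
  rw [idealSect_incl, OmegaLib.idealSect_smul]
  show OmegaSh.idealSect (I * D) U (g s) = _
  rw [hg, mul_comm]

end Comp

variable {n : ℕ} (IY : Fin n → X.IdealSheafData) (D : X.IdealSheafData)

/-- The sum of the ideals. -/
abbrev sumE : X.Modules := ∐ fun i => ClSub.idealMod (IY i)

/-- The sum of the inclusions. -/
def fMap : sumE (fun i => IY i * D) ⟶ sumE IY := Limits.Sigma.map fun i => incl (IY i) D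

theorem fMap_desc :
    fMap IY D ≫ (Limits.Sigma.desc fun i => ClSub.idealModι (IY i)) =
      Limits.Sigma.desc fun i => ClSub.idealModι (IY i * D) := by
  refine Limits.Sigma.hom_ext _ _ fun i => ?_
  simp [fMap, incl_ι]

theorem sum_π_ι (M : Fin n → X.Modules) : 𝟙 (∐ M) = ∑ i, Limits.Sigma.π M i ≫ Limits.Sigma.ι M i := by
  refine Limits.Sigma.hom_ext _ _ fun j => ?_
  rw [Category.comp_id, Preadditive.comp_sum, Finset.sum_eq_single j]
  · rw [Limits.Sigma.ι_π_eq_id_assoc]
  · exact fun i _ hi => by rw [← Category.assoc, Limits.Sigma.ι_π_of_ne _ (Ne.symm hi), zero_comp]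
  · exact fun h => (h (Finset.mem_univ j)).elim

/-- Morphisms act additively on sections. -/
def appHom (A B : X.Modules) (U : X.Opens) : (A ⟶ B) →+ (Γ(A, U) →ₗ[Γ(X, U)] Γ(B, U)) where
  toFun φ := secL φ U
  map_zero' := rfl
  map_add' _ _ := rfl

theorem apply_sum_π_ι (M : Fin n → X.Modules) (U : X.Opens) (e : Γ(∐ M, U)) :
    (∑ i, secL (Limits.Sigma.ι M i) U (secL (Limits.Sigma.π M i) U e)) = e := by
  have h := congrArg (fun φ => appHom (∐ M) (∐ M) U φ e) (sum_π_ι M)
  simp only [map_sum, LinearMap.sum_apply] at h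
  exact h.symm

variable {IY D}

theorem exists_sum_equiv {U : X.Opens} (hU : IsAffineOpen U) {x : Γ(X, U)} (hx : x ∈ nonZeroDivisors Γ(X, U))
    (hD : D.ideal ⟨U, hU⟩ = Ideal.span {x}) :
    ∃ g : Γ(sumE IY, U) ≃ₗ[Γ(X, U)] Γ(sumE (fun i => IY i * D), U), ∀ e, secL (fMap IY D) U (g e) = x • e := by
  choose g hg using fun i => exists_mul_equiv hU hx hD (IY i)
  let A := fun i => ClSub.idealMod (IY i)
  let B := fun i => ClSub.idealMod (IY i * D)
  let fwd : Γ(∐ A, U) →ₗ[Γ(X, U)] Γ(∐ B, U) :=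
    ∑ i, (secL (Limits.Sigma.ι B i) U).comp ((g i).toLinearMap.comp (secL (Limits.Sigma.π A i) U))
  let bwd : Γ(∐ B, U) →ₗ[Γ(X, U)] Γ(∐ A, U) :=
    ∑ i, (secL (Limits.Sigma.ι A i) U).comp ((g i).symm.toLinearMap.comp (secL (Limits.Sigma.π B i) U))
  have hπ : ∀ (M : Fin n → X.Modules) (i : Fin n) (v : ∀ j, Γ(M j, U)),
      secL (Limits.Sigma.π M i) U (∑ j, secL (Limits.Sigma.ι M j) U (v j)) = v i := by
    intro M i v
    rw [map_sum, Finset.sum_eq_single i]
    · exact congrArg (fun φ : M i ⟶ M i => secL φ U (v i)) (Limits.Sigma.ι_π_eq_id M i)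
    · exact fun j _ hj => congrArg (fun φ : M j ⟶ M i => secL φ U (v j)) (Limits.Sigma.ι_π_of_ne M hj)
    · exact fun h => (h (Finset.mem_univ i)).elim
  have hto : ∀ e, fwd e = ∑ i, secL (Limits.Sigma.ι B i) U (g i (secL (Limits.Sigma.π A i) U e)) := fun e => by
    simp only [fwd, LinearMap.sum_apply, LinearMap.comp_apply]
    rfl
  have hinv : ∀ e, bwd e = ∑ i, secL (Limits.Sigma.ι A i) U ((g i).symm (secL (Limits.Sigma.π B i) U e)) :=
    fun e => by (simp only [bwd, LinearMap.sum_apply, LinearMap.comp_apply]; rfl)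
  refine ⟨LinearEquiv.ofLinearMap fwd bwd (LinearMap.ext fun e => ?_) (LinearMap.ext fun e => ?_), fun e => ?_⟩
  · rw [LinearMap.comp_apply, hinv, hto]
    simp only [hπ A, LinearEquiv.apply_symm_apply]
    exact apply_sum_π_ι B U e
  · rw [LinearMap.comp_apply, hto, hinv]
    simp only [hπ B, LinearEquiv.symm_apply_apply]
    exact apply_sum_π_ι A U e
  · show secL (fMap IY D) U (fwd e) = _
    rw [hto, map_sum]
    conv_rhs => rw [← apply_sum_π_ι A U e, Finset.smul_sum]
    refine Finset.sum_congr rfl fun i _ => ?_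
    rw [← map_smul, ← hg i]
    exact congrArg (fun φ : B i ⟶ ∐ A => secL φ U (g i (secL (Limits.Sigma.π A i) U e)))
      (show Limits.Sigma.ι B i ≫ fMap IY D = incl (IY i) D ≫ Limits.Sigma.ι A i by simp [fMap, A, B])

theorem isFinLocFree_sumE (hY : ∀ i, BlowUp.IsEffCartierIdeal (IY i)) : FlatMod.IsFinLocFree (sumE IY) :=
  (ConsPropLib.isFinLocFree_iso (biproduct.isoCoproduct _)).1
    (AmpleFamGen.isFinLocFree_biproduct _ fun i => Big.isInvertible_ideal (hY i))

section Complex

variable (hY : ∀ i, BlowUp.IsEffCartierIdeal (IY i))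
  (C : KoszSh.Cx (sumE IY) (Limits.Sigma.desc fun i => ClSub.idealModι (IY i)))
  (C' : KoszSh.Cx (sumE fun i => IY i * D) (Limits.Sigma.desc fun i => ClSub.idealModι (IY i * D)))

include hY in
theorem isFinLocFree_term (p : ℕ) : FlatMod.IsFinLocFree (C.K.X p) :=
  ExtPowSh.isFinLocFree_of_isExtPow (isFinLocFree_sumE hY) (C.isExtPow p)

/-- The comparison of the two complexes. -/
def phi : C'.K ⟶ C.K := (KoszShX.existsUnique_chainMap (fMap IY D) (fMap_desc IY D) C' C).choose

theorem exists_phi_equiv {U : X.Opens} (hU : IsAffineOpen U) {x : Γ(X, U)} (hx : x ∈ nonZeroDivisors Γ(X, U))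
    (hD : D.ideal ⟨U, hU⟩ = Ideal.span {x}) (p : ℕ) :
    ∃ G : Γ(C.K.X p, U) ≃ₗ[Γ(X, U)] Γ(C'.K.X p, U), ∀ z, secL ((phi C C').f p) U (G z) = x ^ p • z := by
  obtain ⟨g, hg⟩ := exists_sum_equiv (IY := IY) hU hx hD
  let W : X.affineOpens := ⟨U, hU⟩
  let L : ↥(⋀[Γ(X, U)]^p Γ(sumE IY, U)) ≃ₗ[Γ(X, U)] ↥(⋀[Γ(X, U)]^p Γ(sumE (fun i => IY i * D), U)) :=
    LinearEquiv.ofLinearMap (exteriorPower.map p g.toLinearMap) (exteriorPower.map p g.symm.toLinearMap)
      (by rw [← exteriorPower.map_comp, LinearEquiv.comp_symm, exteriorPower.map_id])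
      (by rw [← exteriorPower.map_comp, LinearEquiv.symm_comp, exteriorPower.map_id])
  refine ⟨((C.loc p W).trans L).trans (C'.loc p W).symm, fun z => ?_⟩
  obtain ⟨w, rfl⟩ := (C.loc p W).symm.surjective z
  refine LinearMap.congr_fun (f := (secL ((phi C C').f p) U).comp ((C'.loc p W).symm.toLinearMap.comp
    (L.toLinearMap.comp ((C.loc p W).toLinearMap.comp (C.loc p W).symm.toLinearMap))))
    (g := (x ^ p) • (C.loc p W).symm.toLinearMap) ?_ w
  refine exteriorPower.linearMap_ext (AlternatingMap.ext fun e => ?_)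
  show secL ((phi C C').f p) U ((C'.loc p W).symm (exteriorPower.map p g.toLinearMap
    (C.loc p W ((C.loc p W).symm (exteriorPower.ιMulti _ p e))))) = x ^ p • _
  rw [LinearEquiv.apply_symm_apply, exteriorPower.map_apply_ιMulti]
  refine ((KoszShX.existsUnique_chainMap (fMap IY D) (fMap_desc IY D) C' C).choose_spec.1 p W _).trans ?_
  have h2 : (fun j => (fMap IY D).app U ((g.toLinearMap ∘ e) j)) = fun j => x • e j := funext fun j => hg (e j)
  rw [h2, AlternatingMap.map_smul_univ, Finset.prod_const, Finset.card_fin]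
  exact map_smul _ _ _

end Complex

end Groth.Agent.KoszDiv
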