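import Groth.Agent.KRegLib.WeakReg
import Groth.Agent.KRegLib.FFDescent
import Groth.Agent.LC.GorRows
import Groth.Agent.LC.ExtDim
import Groth.Agent.LC.CdDim
import Groth.Agent.GrLib8.Avoid

/-!
# Elements regular on the homology of a Koszul complex
-/

set_option autoImplicit false
set_option linter.style.haveILetI false
set_option linter.unusedSectionVars false
set_option backward.isDefEq.respectTransparency false
set_option backward.isDefEq.respectTransparency.types false

universe u v w

noncomputable section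

namespace Groth.Agent.KoszDiv

open WiebeLib KRegLib

section Pre

variable {c : ℕ}

/-- `v` followed by `f`. -/
def zpre {α : Type v} (f : Fin c → α) : ∀ n : ℕ, (Fin n → α) → Fin (c + n) → α
  | 0, _ => f
  | n + 1, v => Fin.cons (v 0) (zpre f n fun i => v i.succ)

theorem zpre_sum {α β : Type v} {γ : Type w} [AddCommMonoid γ] (op : α → β → γ) (a : Fin c → α) (f : Fin c → β) :
    ∀ (n : ℕ) (b : Fin n → α) (v : Fin n → β),
      ∑ j, op (zpre a n b j) (zpre f n v j) = (∑ j, op (b j) (v j)) + ∑ j, op (a j) (f j)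
  | 0, b, v => by simp [zpre]
  | n + 1, b, v => by
    refine (Fin.sum_univ_succ _).trans ?_
    simp only [zpre, Fin.cons_zero, Fin.cons_succ]
    refine (congrArg (op (b 0) (v 0) + ·) (zpre_sum op a f n _ _)).trans ?_
    rw [Fin.sum_univ_succ (fun j => op (b j) (v j)), add_assoc]

theorem zpre_map {α : Type v} {β : Type w} (h : α → β) (f : Fin c → α) :
    ∀ (n : ℕ) (v : Fin n → α) (j : Fin (c + n)), h (zpre f n v j) = zpre (fun i => h (f i)) n (fun i => h (v i)) j
  | 0, _, _ => rfl
  | n + 1, v, j => by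
    induction j using Fin.cases with
    | zero => simp [zpre]
    | succ j => simp only [zpre, Fin.cons_succ]; exact zpre_map h f n _ j

end Pre

variable {R : Type u} [CommRing R]

/-- Cycles in degree `k`. -/
def cyc : ∀ (n : ℕ) (_ : Fin n → R) (k : ℕ), Ko R n k → Prop
  | _, _, 0, _ => True
  | n, g, k + 1, z => d n g k z = 0

/-- `x` is regular on the homology of the Koszul complex. -/
def RegH (x : R) {n : ℕ} (g : Fin n → R) : Prop :=
  ∀ (k : ℕ) (z : Ko R n k), cyc n g k z → x • z ∈ LinearMap.range (d n g k) → z ∈ LinearMap.range (d n g k)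

theorem regH_of_exact {n : ℕ} {f : Fin n → R} (hf : IsExact f) {x : R}
    (hx : ∀ a : R, x * a ∈ Ideal.span (Set.range f) → a ∈ Ideal.span (Set.range f)) : RegH x f := by
  intro k z hz hxz
  cases k with
  | zero =>
    rw [mem_range_d_zero] at hxz ⊢
    rw [map_smul, smul_eq_mul] at hxz
    exact hx _ hxz
  | succ k => exact hf k z hz

theorem regH_cons_zero {n : ℕ} {f : Fin n → R} {x : R} (h : RegH x f) :
    RegH x (Fin.cons 0 f : Fin (n + 1) → R) := by
  have hf : (fun i : Fin n => (Fin.cons 0 f : Fin (n + 1) → R) i.succ) = f := rfl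
  intro k z hz ⟨w, hw⟩
  cases k with
  | zero =>
    obtain ⟨a, ha⟩ : (z : Ko R n 0) ∈ LinearMap.range (d n f 0) := h 0 z trivial ⟨fstL n 0 w, by
      refine Eq.trans ?_ hw
      show _ = d n _ 0 (fstL n 0 w) + (Fin.cons 0 f : Fin (n + 1) → R) 0 • sndL n 0 w
      rw [hf, Fin.cons_zero, zero_smul, add_zero]⟩
    refine ⟨Sum.elim a (0 : Ko R n 0), ?_⟩
    show d n _ 0 a + (Fin.cons 0 f : Fin (n + 1) → R) 0 • (0 : Ko R n 0) = z
    rw [hf, smul_zero, add_zero]
    exact ha
  | succ k =>
    have hw1 : d n f (k + 1) (fstL n (k + 1) w) = x • fstL n k z := by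
      have := congrArg (fstL n k) hw
      rw [map_smul] at this
      refine Eq.trans ?_ this
      show _ = d n _ (k + 1) (fstL n (k + 1) w) + (Fin.cons 0 f : Fin (n + 1) → R) 0 • sndL n (k + 1) w
      rw [hf, Fin.cons_zero, zero_smul, add_zero]
    have hw2 : d n f k (-(sndL n (k + 1) w)) = x • sndL n k z := by
      have := congrArg (sndL n k) hw
      rw [map_smul] at this
      refine Eq.trans ?_ this
      show _ = -(d n _ k (sndL n (k + 1) w))
      rw [hf, map_neg]
    have hz1 : cyc n f (k + 1) (fstL n k z) ∧ cyc n f k (sndL n k z) := by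
      cases k with
      | zero =>
        refine ⟨?_, trivial⟩
        refine Eq.trans ?_ hz
        show _ = d n _ 0 (fstL n 0 z) + (Fin.cons 0 f : Fin (n + 1) → R) 0 • sndL n 0 z
        rw [hf, Fin.cons_zero, zero_smul, add_zero]
      | succ k =>
        constructor
        · refine Eq.trans ?_ (congrArg (fstL n k) hz)
          show _ = d n _ (k + 1) (fstL n (k + 1) z) + (Fin.cons 0 f : Fin (n + 1) → R) 0 • sndL n (k + 1) z
          rw [hf, Fin.cons_zero, zero_smul, add_zero]
        · have h2 : -(d n f k (sndL n (k + 1) z)) = 0 := by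
            refine Eq.trans ?_ ((congrArg (sndL n k) hz).trans (map_zero _))
            rfl
          exact neg_eq_zero.1 h2
    obtain ⟨a, ha⟩ := h (k + 1) _ hz1.1 ⟨_, hw1⟩
    obtain ⟨b, hb⟩ := h k _ hz1.2 ⟨_, hw2⟩
    refine ⟨Sum.elim a (-b), ko_ext ?_ ?_⟩
    · show d n _ (k + 1) a + (Fin.cons 0 f : Fin (n + 1) → R) 0 • (-b) = _
      rw [hf, Fin.cons_zero, zero_smul, add_zero]
      exact ha
    · show -(d n _ k (-b)) = _
      rw [hf, map_neg, neg_neg]
      exact hb

theorem regH_zpre {c : ℕ} {f : Fin c → R} {x : R} (h : RegH x f) :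
    ∀ n, RegH x (zpre f n (fun _ => 0))
  | 0 => h
  | n + 1 => regH_cons_zero (regH_zpre h n)

theorem regH_retract {m n : ℕ} {f : Fin m → R} {g : Fin n → R} {x : R} (hf : RegH x f)
    (C : Fin m → Fin n → R) (C' : Fin n → Fin m → R) (hfg : ∀ i, f i = ∑ j, C i j * g j)
    (hgf : ∀ i, g i = ∑ j, C' i j * f j) (h1 : matMul C' C = fun i => Pi.single i 1) : RegH x g := by
  have hf' : f = fun i => ∑ j, C i j * g j := funext hfg
  have hg' : g = fun i => ∑ j, C' i j * f j := funext hgf
  intro k z hz ⟨w, hw⟩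
  have hxw : d m f k (U n C' (k + 1) w) = x • U n C' k z := by
    rw [d_U, ← hg', hw, map_smul]
  have hcyc : cyc m f k (U n C' k z) := by
    cases k with
    | zero => trivial
    | succ k =>
      show d m f k _ = 0
      rw [d_U, ← hg', show d n g k z = 0 from hz, map_zero]
  obtain ⟨v, hv⟩ := hf k _ hcyc ⟨_, hxw⟩
  refine ⟨U m C (k + 1) v, ?_⟩
  rw [d_U, ← hf', hv, U_comp, h1, U_one]

/-- Generators of the ideal of an exact sequence have the same property. -/
theorem regH_of_span_eq {c n : ℕ} {f : Fin c → R} {y : Fin n → R} (hf : IsExact f)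
    (hspan : Ideal.span (Set.range y) = Ideal.span (Set.range f)) {x : R}
    (hx : ∀ a : R, x * a ∈ Ideal.span (Set.range f) → a ∈ Ideal.span (Set.range f)) : RegH x y := by
  classical
  have hy : ∀ i, ∃ a : Fin c → R, ∑ j, a j * f j = y i := fun i => Ideal.mem_span_range_iff_exists_fun.1
    (hspan ▸ Ideal.subset_span ⟨i, rfl⟩ : y i ∈ Ideal.span (Set.range f))
  have hfy : ∀ i, ∃ a : Fin n → R, ∑ j, a j * y j = f i := fun i => Ideal.mem_span_range_iff_exists_fun.1
    (hspan.symm ▸ Ideal.subset_span ⟨i, rfl⟩ : f i ∈ Ideal.span (Set.range y))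
  choose A hA using hy
  choose B hB using hfy
  let e : Fin n → Fin n → R := fun i => Pi.single i 1
  let C : Fin (c + n) → Fin n → R := zpre B n fun i => e i - vecMul (A i) B
  let C' : Fin n → Fin (c + n) → R := fun i => zpre (A i) n (e i)
  have hval : ∀ (i : Fin n), ∑ j, (e i - vecMul (A i) B) j * y j = 0 := fun i => by
    simp only [Pi.sub_apply, sub_mul, Finset.sum_sub_distrib, vecMul, Finset.sum_apply, Pi.smul_apply,
      smul_eq_mul, Finset.sum_mul]
    rw [Finset.sum_comm (f := fun j l => A i l * B l j * y j)]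
    simp only [mul_assoc, ← Finset.mul_sum, hB, hA, e, Pi.single_apply, ite_mul, one_mul, zero_mul,
      Finset.sum_ite_eq', Finset.mem_univ, if_true, sub_self]
  refine regH_retract (regH_zpre (regH_of_exact hf hx) n) C C' (fun i => ?_) (fun i => ?_) ?_
  · refine Eq.trans ?_ (zpre_map (fun v : Fin n → R => ∑ j, v j * y j) B n _ i).symm
    simp only [hB, hval]
  · rw [zpre_sum (fun p q : R => p * q) (A i) f n (e i) (fun _ => 0), hA]
    simp
  · funext i
    show ∑ j, zpre (A i) n (e i) j • zpre B n (fun i => e i - vecMul (A i) B) j = _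
    rw [zpre_sum (fun (p : R) (q : Fin n → R) => p • q) (A i) B n (e i)]
    simp only [e, Pi.single_apply, ite_smul, one_smul, zero_smul, Finset.sum_ite_eq', Finset.mem_univ, if_true]
    exact sub_add_cancel _ _

/-- The property may be checked on localizations at maximal ideals. -/
theorem regH_local {n : ℕ} (g : Fin n → R) (x : R)
    (h : ∀ (P : Ideal R) [P.IsMaximal], ∃ (S : Type u) (_ : CommRing S) (_ : Algebra R S)
      (_ : IsLocalization.AtPrime S P), RegH (algebraMap R S x) fun i => algebraMap R S (g i)) :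
    RegH x g := by
  classical
  intro k z hz ⟨w, hw⟩
  let I : Ideal R := (LinearMap.range (d n g k)).comap (LinearMap.toSpanSingleton R _ z)
  suffices hI : I = ⊤ by
    obtain ⟨y, hy⟩ := (hI ▸ Submodule.mem_top : (1 : R) ∈ I)
    exact ⟨y, hy.trans (one_smul R z)⟩
  by_contra hne
  obtain ⟨Q, hQ, hle⟩ := Ideal.exists_le_maximal I hne
  obtain ⟨S, hS1, hS2, hS3, hreg⟩ := h Q
  let al := algebraMap R S
  have hcyc : cyc n (fun i => al (g i)) k (fun i => al (z i)) := by
    cases k with
    | zero => trivial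
    | succ k =>
      show d n _ k _ = 0
      rw [d_map, show d n g k z = 0 from hz]
      funext i
      exact map_zero al
  obtain ⟨y, hy⟩ := hreg k _ hcyc ⟨fun i => al (w i), by
    rw [d_map, hw]
    funext i
    exact map_mul al x (z i)⟩
  obtain ⟨s, hs⟩ := IsLocalization.exist_integer_multiples_of_finite Q.primeCompl y
  choose b hb using hs
  have hby : (fun i => al (b i)) = al s • y := funext fun i => (hb i).trans (Algebra.smul_def _ _)
  have heq : ∀ i, al (d n g k b i) = al (s * z i) := fun i => by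
    rw [← congrFun (d_map al n g k b) i, hby, map_smul, hy, map_mul]
    rfl
  choose t ht using fun i => (IsLocalization.eq_iff_exists Q.primeCompl S).1 (heq i)
  let t₀ : Q.primeCompl := ∏ i, t i
  have hmem : (t₀ : R) * s ∈ I := by
    refine ⟨(t₀ : R) • b, ?_⟩
    rw [map_smul]
    funext i
    show (t₀ : R) * d n g k b i = (t₀ : R) * s * z i
    obtain ⟨c, hc⟩ : (t i : R) ∣ (t₀ : R) :=
      (Finset.dvd_prod_of_mem (fun i => (t i : R)) (Finset.mem_univ i)).trans
        (by rw [Submonoid.coe_finsetProd])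
    rw [hc, mul_comm (t i : R) c, mul_assoc, ht i]
    ring
  exact (t₀ * s).2 (hle hmem)

/-- In a regular local ring, an element outside the minimal primes of a regular sequence is regular on the
quotient. -/
theorem regular_mod_of_minimal (A : Type u) [CommRing A] [IsRegularLocalRing A] (rs : List A)
    (hrs : RingTheory.Sequence.IsWeaklyRegular A rs) (hmem : ∀ r ∈ rs, r ∈ IsLocalRing.maximalIdeal A) (x : A)
    (hx : ∀ P ∈ (Ideal.ofList rs).minimalPrimes, x ∉ P) (a : A) (ha : x * a ∈ Ideal.ofList rs) :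
    a ∈ Ideal.ofList rs := by
  haveI := LC.gorenstein_of_isRegularLocalRing (R := A)
  haveI := LC.isCohenMacaulayLocalRing_of_gorenstein (R := A)
  let J : Ideal A := Ideal.ofList rs
  have hcm0 := LC.isCM_quot_ofList (R := A) (M := A)
    LocCoh.IsCohenMacaulayLocalRing.supportDim_eq_depth hrs hmem
  have hJ : (J • ⊤ : Submodule A A) = J := by rw [smul_eq_mul, Ideal.mul_top]
  have hcm : LocCoh.IsCohenMacaulayModule A (A ⧸ J) := by
    rw [show Ideal.ofList rs • (⊤ : Submodule A A) = J from hJ] at hcm0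
    exact hcm0
  have hreg : IsSMulRegular (A ⧸ J) x := GrLib8.isSMulRegular_of_forall_notMem fun P hP => by
    refine hx P ?_
    haveI hPp : P.IsPrime := hP.isPrime
    have hJP : J ≤ P := by
      obtain ⟨_, z, hz⟩ := Alg6.mem_ass_iff.1 hP
      intro r hr
      refine (hz r).2 ?_
      obtain ⟨z, rfl⟩ := Ideal.Quotient.mk_surjective z
      rw [Algebra.smul_def, show algebraMap A (A ⧸ J) r = 0 from Ideal.Quotient.eq_zero_iff_mem.2 hr, zero_mul]
    refine ⟨⟨hPp, hJP⟩, fun Q hQ hQP => ?_⟩
    by_contra hPQ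
    let p : PrimeSpectrum A := ⟨P, hPp⟩
    let q : PrimeSpectrum A := ⟨Q, hQ.1⟩
    have h1 : (Order.coheight p : WithBot ℕ∞) = Module.supportDim A (A ⧸ J) :=
      LC.coheight_eq_of_ass_of_isCM (R := A) (A ⧸ J) hcm (p := p) hP
    have hqs : q ∈ Module.support A (A ⧸ J) := by
      rw [Module.support_eq_zeroLocus, Ideal.annihilator_quotient]
      exact hQ.2
    have h2 : (Order.coheight q : WithBot ℕ∞) ≤ Module.supportDim A (A ⧸ J) := LC.coheight_le_supportDim hqs
    rw [← h1, WithBot.coe_le_coe] at h2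
    have h3 : Order.coheight p + 1 ≤ Order.coheight q :=
      LC.coheight_add_one_le (show q < p from lt_of_le_not_ge hQP hPQ)
    obtain ⟨D, hD⟩ : ∃ D : ℕ, Order.coheight p = D := by
      haveI := LC.nontrivial_of_isCM (A ⧸ J) hcm
      obtain ⟨D, hD⟩ := LC.exists_supportDim_eq_nat (R := A) (A ⧸ J)
      exact ⟨D, by rw [← WithBot.coe_inj, h1, hD]; rfl⟩
    rw [hD] at h2 h3
    have h4 := h3.trans h2
    have : D + 1 ≤ D := by exact_mod_cast h4
    omega
  have h0 : x • Ideal.Quotient.mk J a = x • (0 : A ⧸ J) := by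
    rw [smul_zero]
    exact Ideal.Quotient.eq_zero_iff_mem.2 ha
  exact Ideal.Quotient.eq_zero_iff_mem.1 (hreg h0)

end Groth.Agent.KoszDiv
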