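import Groth.Agent.KoszDiv.Main
import Groth.Agent.KoszDiv.Reg
import Groth.Agent.GrpSchLib.SmoothRegular
import Groth.Prelude.Def_RegImm

/-!
# Regularity on the Koszul homology of an lci intersection of divisors
-/

set_option linter.style.haveILetI false
set_option linter.unusedSectionVars false
set_option backward.isDefEq.respectTransparency false
set_option backward.isDefEq.respectTransparency.types false
set_option maxHeartbeats 800000
set_option autoImplicit false

universe u

open CategoryTheory CategoryTheory.Limits AlgebraicGeometry TopologicalSpace Opposite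

noncomputable section

namespace Groth.Agent.KoszDiv

variable {X : Scheme.{u}}

theorem mem_support_iff_le (I : X.IdealSheafData) {U : X.affineOpens} {y : X} (hy : y ∈ U.1) :
    y ∈ (I.support : Set X) ↔ I.ideal U ≤ (U.2.primeIdealOf ⟨y, hy⟩).asIdeal := by
  have h : y ∈ (I.support : Set X) ↔ y ∈ X.zeroLocus (U := U.1) (I.ideal U) := by
    have := Set.ext_iff.1 (I.coe_support_inter U) y
    exact ⟨fun h => (this.1 ⟨h, hy⟩).1, fun h => (this.2 ⟨h, hy⟩).1⟩
  rw [h, Scheme.mem_zeroLocus_iff]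
  exact forall₂_congr fun f _ => by rw [QCoh.mem_basicOpen_iff_notMem U.2 hy, not_not]

theorem map_ideal_stalk (I : X.IdealSheafData) {U V : X.affineOpens} {y : X} (hU : y ∈ U.1) (hV : y ∈ V.1) :
    (I.ideal U).map (X.presheaf.germ U.1 y hU).hom = (I.ideal V).map (X.presheaf.germ V.1 y hV).hom := by
  obtain ⟨f, g, e, hf⟩ := exists_basicOpen_le_affine_inter U.2 V.2 y ⟨hU, hV⟩
  let W : X.affineOpens := X.affineBasicOpen (U := U) f
  have h1 : W.1 ≤ U.1 := X.basicOpen_le f
  have h2 : W.1 ≤ V.1 := by show X.basicOpen f ≤ V.1; rw [e]; exact X.basicOpen_le g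
  have key : ∀ (U : X.affineOpens) (hU : y ∈ U.1) (h : W.1 ≤ U.1),
      (I.ideal U).map (X.presheaf.germ U.1 y hU).hom = (I.ideal W).map (X.presheaf.germ W.1 y hf).hom := by
    intro U hU h
    rw [← I.map_ideal (U := W) (V := U) h, Ideal.map_map]
    congr 1
    exact (congrArg CommRingCat.Hom.hom (X.presheaf.germ_res (homOfLE h) y hf)).symm
  rw [key U hU h1, key V hV h2]

theorem res_mem_nonZeroDivisors' {U W : X.Opens} (hU : IsAffineOpen U) (h : W ≤ U) {x : Γ(X, U)}
    (hx : x ∈ nonZeroDivisors Γ(X, U)) :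
    (X.presheaf.map (homOfLE h).op).hom x ∈ nonZeroDivisors Γ(X, W) := by
  have key : ∀ a : Γ(X, W), a * (X.presheaf.map (homOfLE h).op).hom x = 0 → a = 0 := by
    intro a ha
    refine TopCat.Presheaf.section_ext X.sheaf _ _ _ fun y hy => ?_
    obtain ⟨g, hg, hyg⟩ := hU.exists_basicOpen_le (V := W) ⟨y, hy⟩ (h hy)
    have h0 := congrArg (X.presheaf.map (homOfLE hg).op).hom ha
    rw [map_mul, map_zero, ← CommRingCat.comp_apply, ← X.presheaf.map_comp] at h0
    have h1 := (res_mem_nonZeroDivisors hU g hx).2 _ h0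
    show X.presheaf.germ W y hy a = X.presheaf.germ W y hy 0
    rw [map_zero, ← X.presheaf.germ_res_apply (homOfLE hg) y hyg a]
    exact (congrArg (X.presheaf.germ (X.basicOpen g) y hyg).hom h1).trans (map_zero _)
  exact ⟨fun a ha => key a (by rw [mul_comm]; exact ha), key⟩

/-- Near every point finitely many Cartier ideals are principal on one basic open. -/
theorem exists_chart {n : ℕ} (IY : Fin n → X.IdealSheafData) (hY : ∀ i, BlowUp.IsEffCartierIdeal (IY i))
    (U : X.affineOpens) {p : X} (hp : p ∈ U.1) :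
    ∃ g : Γ(X, U.1), p ∈ X.basicOpen g ∧ ∀ i, ∃ y : Γ(X, X.basicOpen g),
      y ∈ nonZeroDivisors Γ(X, X.basicOpen g) ∧
        (IY i).ideal (X.affineBasicOpen (U := U) g) = Ideal.span {y} := by
  choose V hpV y hy hVy using fun i => hY i p
  let O : X.Opens := ⟨(U.1 : Set X) ∩ ⋂ i, ((V i).1 : Set X),
    U.1.2.inter (isOpen_iInter_of_finite fun i => (V i).1.2)⟩
  obtain ⟨g, hg, hpg⟩ := U.2.exists_basicOpen_le (V := O) ⟨p, hp, Set.mem_iInter.2 hpV⟩ hp
  refine ⟨g, hpg, fun i => ?_⟩
  have hle : X.basicOpen g ≤ (V i).1 := fun z hz => Set.mem_iInter.1 (hg hz).2 i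
  refine ⟨(X.presheaf.map (homOfLE hle).op).hom (y i), res_mem_nonZeroDivisors' (V i).2 hle (hy i), ?_⟩
  rw [← (IY i).map_ideal (U := X.affineBasicOpen (U := U) g) (V := V i) hle, hVy i, Ideal.map_span,
    Set.image_singleton]
  rfl

theorem exists_basis_sumE {n : ℕ} (IY : Fin n → X.IdealSheafData) {W : X.Opens} (hW : IsAffineOpen W)
    (y : Fin n → Γ(X, W)) (hy : ∀ i, y i ∈ nonZeroDivisors Γ(X, W))
    (hYy : ∀ i, (IY i).ideal ⟨W, hW⟩ = Ideal.span {y i}) :
    ∃ b : Module.Basis (Fin n) Γ(X, W) Γ(sumE IY, W),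
      ∀ i, KoszSh.secForm (Limits.Sigma.desc fun i => ClSub.idealModι (IY i)) W (b i) = y i := by
  choose e he hev using fun i => exists_gen_ideal hW (hy i) (hYy i)
  let A := fun i => ClSub.idealMod (IY i)
  let v : Fin n → Γ(sumE IY, W) := fun i => secL (Limits.Sigma.ι A i) W (e i)
  have hπ : ∀ (i : Fin n) (c : Fin n → Γ(X, W)), secL (Limits.Sigma.π A i) W (∑ j, c j • v j) = c i • e i := by
    intro i c
    rw [map_sum, Finset.sum_eq_single i]
    · rw [map_smul]
      exact congrArg (c i • ·) (congrArg (fun φ : A i ⟶ A i => secL φ W (e i)) (Limits.Sigma.ι_π_eq_id A i))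
    · intro j _ hj
      rw [map_smul]
      exact (congrArg (c j • ·) (congrArg (fun φ : A j ⟶ A i => secL φ W (e j))
        (Limits.Sigma.ι_π_of_ne A hj))).trans (smul_zero _)
    · exact fun h => (h (Finset.mem_univ i)).elim
  have hbij : Function.Bijective fun c : Fin n → Γ(X, W) => ∑ i, c i • v i := by
    refine ⟨fun c c' h => funext fun i => (he i).1 ?_, fun z => ?_⟩
    · exact (hπ i c).symm.trans ((congrArg (secL (Limits.Sigma.π A i) W) h).trans (hπ i c'))
    · choose c hc using fun i => (he i).2 (secL (Limits.Sigma.π A i) W z)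
      refine ⟨c, Eq.trans ?_ (apply_sum_π_ι A W z)⟩
      refine Finset.sum_congr rfl fun i _ => ?_
      show c i • secL (Limits.Sigma.ι A i) W (e i) = _
      rw [← map_smul]
      exact congrArg _ (hc i)
  obtain ⟨b, hb⟩ := TopDiff.basis_of_unique v hbij
  refine ⟨b, fun i => ?_⟩
  rw [hb]
  exact (congrArg (fun φ : A i ⟶ Coh.structureModule X => OmegaSh.fnSect X W (φ.app W (e i)))
    (Limits.Sigma.ι_desc (fun i => ClSub.idealModι (IY i)) i)).trans (hev i)

/-- The Koszul homology of a complex with regular homology has no torsion. -/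
theorem homology_reg {n : ℕ} {E : X.Modules} {s : E ⟶ Coh.structureModule X} (C : KoszSh.Cx E s)
    (hC : ∀ p, Coh.IsQCoh (C.K.X p)) {W : X.Opens} (hW : IsAffineOpen W) [Nonempty W]
    (b : Module.Basis (Fin n) Γ(X, W) Γ(E, W)) (x : Γ(X, W))
    (hreg : RegH x fun i => KoszSh.secForm s W (b i)) (q : ℕ) (h : Γ(C.K.homology q, W)) (hh : x • h = 0) :
    h = 0 := by
  let W' : X.affineOpens := ⟨W, hW⟩
  let T : ∀ k, Γ(C.K.X k, W) →ₗ[Γ(X, W)] WiebeLib.Ko Γ(X, W) n k := fun k =>
    (KoszShX.cmp b k).comp (C.loc k W').toLinearMap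
  have hT : ∀ k z, T k (secL (C.K.d (k + 1) k) W z) =
      WiebeLib.d n (fun i => KoszSh.secForm s W (b i)) k (T (k + 1) z) := by
    intro k z
    obtain ⟨u, rfl⟩ := (C.loc (k + 1) W').symm.surjective z
    refine LinearMap.congr_fun (f := (T k).comp ((secL (C.K.d (k + 1) k) W).comp (C.loc (k + 1) W').symm.toLinearMap))
      (g := (WiebeLib.d n (fun i => KoszSh.secForm s W (b i)) k).comp ((T (k + 1)).comp
        (C.loc (k + 1) W').symm.toLinearMap)) ?_ u
    refine exteriorPower.linearMap_ext (AlternatingMap.ext fun e => ?_)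
    show KoszShX.cmp b k (C.loc k W' ((C.K.d (k + 1) k).app W _)) =
      WiebeLib.d n _ k (KoszShX.cmp b (k + 1) (C.loc (k + 1) W' _))
    refine (congrArg (fun t => KoszShX.cmp b k (C.loc k W' t)) (C.rule k W' e)).trans ?_
    rw [LinearEquiv.apply_symm_apply, KoszShX.cmp_dGen]
    exact congrArg (fun t => WiebeLib.d n _ k (KoszShX.cmp b (k + 1) t)) (LinearEquiv.apply_symm_apply _ _).symm
  have hTb : ∀ k, Function.Bijective (T k) := fun k =>
    (KoszShX.cmp_bijective b k).comp (C.loc k W').bijective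
  obtain ⟨c, rfl⟩ := homologyπ_surjective C.K hC q hW h
  rw [← map_smul] at hh
  obtain ⟨v, hv⟩ := (homologyπ_eq_zero C.K hC q hW _).1 hh
  let z := secL (C.K.iCycles q) W c
  have hd : secL (C.K.d (q + 1) q) W v = x • z := by
    rw [← secL_congr (C.K.toCycles_i (q + 1) q) W v, ← secL_comp, hv, map_smul]
  have hcyc : cyc n (fun i => KoszSh.secForm s W (b i)) q (T q z) := by
    cases q with
    | zero => trivial
    | succ k =>
      show WiebeLib.d n _ k (T (k + 1) z) = 0
      rw [← hT, secL_comp, secL_congr (C.K.iCycles_d (k + 1) k) W c]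
      exact map_zero _
  obtain ⟨w, hw⟩ := hreg q (T q z) hcyc ⟨T (q + 1) v, by rw [← hT, hd, map_smul]⟩
  obtain ⟨u, rfl⟩ := (hTb (q + 1)).2 w
  refine (homologyπ_eq_zero C.K hC q hW c).2 ⟨u, secL_injective (C.K.iCycles q) W ?_⟩
  rw [secL_comp, secL_congr (C.K.toCycles_i (q + 1) q) W u]
  exact (hTb q).1 ((hT q u).trans hw)

section Geometry

variable {k : Type u} [Field k] (f : X ⟶ Spec (CommRingCat.of k)) [Smooth f] {I : X.IdealSheafData}
  (hI : RegImm.IsRegularImmersion RegImm.Kind.regular I.subschemeι) (D : X.IdealSheafData)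
  (hID : ∀ z : ↥I.subscheme, ringKrullDim (I.subscheme.presheaf.stalk z) = 0 →
    I.subschemeι.base z ∉ Set.range D.subschemeι.base)

include hID in
theorem not_le_minimal {U : X.affineOpens} {P : Ideal Γ(X, U.1)} (hP : P ∈ (I.ideal U).minimalPrimes) :
    ¬ D.ideal U ≤ P := by
  intro hDP
  haveI := hP.1.1
  obtain ⟨y, hy, hyP⟩ := QCoh.exists_point U.2 ⟨P, hP.1.1⟩
  have hPI : (U.2.primeIdealOf ⟨y, hy⟩).asIdeal = P := congrArg PrimeSpectrum.asIdeal hyP
  have hyI : y ∈ (I.support : Set X) := (mem_support_iff_le I hy).2 (by rw [hPI]; exact hP.1.2)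
  rw [← I.range_subschemeι] at hyI
  obtain ⟨z, rfl⟩ := hyI
  let V : I.subscheme.Opens := I.subschemeι ⁻¹ᵁ U.1
  have hV : IsAffineOpen V := U.2.preimage I.subschemeι
  let φ : Γ(X, U.1) →+* Γ(I.subscheme, V) := (I.subschemeι.app U.1).hom
  have hφs : Function.Surjective φ := I.subschemeι.app_surjective U.1 U.2
  have hφk : RingHom.ker φ = I.ideal U := I.ker_subschemeι_app U
  let Q := (hV.primeIdealOf ⟨z, hy⟩).asIdeal
  have hQ : Q.comap φ = P := by
    have h := congrArg PrimeSpectrum.asIdeal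
      (IsAffineOpen.comap_primeIdealOf_appLE (f := I.subschemeι) U.1 U.2 V hV le_rfl (x := z) hy)
    rw [PrimeSpectrum.comap_asIdeal] at h
    refine Eq.trans ?_ (h.trans hPI)
    show Q.comap (I.subschemeι.app U.1).hom = _
    rw [Scheme.Hom.app_eq_appLE]
  have hmin : Q ∈ minimalPrimes Γ(I.subscheme, V) := by
    refine ⟨⟨inferInstanceAs Q.IsPrime, bot_le⟩, fun R hR hRQ => ?_⟩
    haveI := hR.1
    have hle : P ≤ R.comap φ := hP.2 ⟨Ideal.IsPrime.comap φ, hφk ▸ Ideal.comap_mono bot_le⟩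
      (hQ ▸ Ideal.comap_mono hRQ)
    rw [← hQ] at hle
    rw [← Ideal.map_comap_of_surjective φ hφs Q, ← Ideal.map_comap_of_surjective φ hφs R]
    exact Ideal.map_mono hle
  letI := (I.subscheme.presheaf.germ V z hy).hom.toAlgebra
  haveI : IsLocalization.AtPrime (I.subscheme.presheaf.stalk z) Q := hV.isLocalization_stalk ⟨z, hy⟩
  refine hID z ?_ ?_
  · rw [IsLocalization.AtPrime.ringKrullDim_eq_height Q (I.subscheme.presheaf.stalk z),
      Ideal.height_eq_zero_iff.2 hmin]
    rfl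
  · rw [D.range_subschemeι]
    exact (mem_support_iff_le D hy).2 (by rw [hPI]; exact hDP)

include f hI hID in
theorem regH_stalk {n : ℕ} {W : X.affineOpens} (y : Fin n → Γ(X, W.1))
    (hspan : I.ideal W = Ideal.span (Set.range y)) (x : Γ(X, W.1)) (hx : D.ideal W = Ideal.span {x})
    {p : X} (hp : p ∈ W.1) :
    RegH ((X.presheaf.germ W.1 p hp).hom x) fun i => (X.presheaf.germ W.1 p hp).hom (y i) := by
  let g := (X.presheaf.germ W.1 p hp).hom
  have hgspan : (I.ideal W).map g = Ideal.span (Set.range fun i => g (y i)) := by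
    rw [hspan, Ideal.map_span, ← Set.range_comp]
    rfl
  by_cases hpI : p ∈ (I.support : Set X)
  swap
  · have htop : Ideal.span (Set.range fun i => g (y i)) = ⊤ := by
      rw [← hgspan]
      have h2 : ¬ I.ideal W ≤ (W.2.primeIdealOf ⟨p, hp⟩).asIdeal := fun h => hpI ((mem_support_iff_le I hp).2 h)
      obtain ⟨a, ha, hap⟩ := Set.not_subset.1 h2
      refine Ideal.eq_top_of_isUnit_mem _ (Ideal.mem_map_of_mem g ha) ?_
      exact (X.mem_basicOpen a p hp).1 ((QCoh.mem_basicOpen_iff_notMem W.2 hp a).2 hap)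
    exact regH_of_exact (KRegLib.isExact_of_span_eq_top htop) fun a _ => by rw [htop]; trivial
  obtain ⟨z, hz⟩ := (I.range_subschemeι ▸ hpI : p ∈ Set.range I.subschemeι.base)
  obtain ⟨U, hzU, -, rs, hrs, hker⟩ := hI.2 z
  have hpU : p ∈ U.1 := hz ▸ hzU
  have hI0 : I.ideal U = Ideal.ofList rs := (I.ker_subschemeι_app U).symm.trans hker
  let A := X.presheaf.stalk p
  letI : Algebra Γ(X, U.1) A := (X.presheaf.germ U.1 p hpU).hom.toAlgebra
  haveI : IsLocalization.AtPrime A (U.2.primeIdealOf ⟨p, hpU⟩).asIdeal := U.2.isLocalization_stalk ⟨p, hpU⟩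
  haveI : Module.Flat Γ(X, U.1) A :=
    IsLocalization.flat A (U.2.primeIdealOf ⟨p, hpU⟩).asIdeal.primeCompl
  let al := algebraMap Γ(X, U.1) A
  have hweak : RingTheory.Sequence.IsWeaklyRegular A (rs.map al) :=
    (RingTheory.Sequence.IsRegular.toIsWeaklyRegular hrs).of_flat
  have hJ : Ideal.ofList (rs.map al) = Ideal.span (Set.range fun i => g (y i)) := by
    rw [← Ideal.map_ofList, ← hI0, ← hgspan]
    exact map_ideal_stalk I hpU hp
  haveI : IsRegularLocalRing A := GrpSchLib.isRegularLocalRing_stalk_of_smooth f p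
  have hmem : ∀ r ∈ rs.map al, r ∈ IsLocalRing.maximalIdeal A := by
    intro r hr
    obtain ⟨a, ha, rfl⟩ := List.mem_map.1 hr
    rw [IsLocalization.AtPrime.to_map_mem_maximal_iff A (U.2.primeIdealOf ⟨p, hpU⟩).asIdeal]
    exact (mem_support_iff_le I hpU).1 hpI (hI0 ▸ Ideal.subset_span ha)
  have hxreg : ∀ a, g x * a ∈ Ideal.ofList (rs.map al) → a ∈ Ideal.ofList (rs.map al) := by
    refine regular_mod_of_minimal A _ hweak hmem (g x) fun Q hQ hxQ => ?_
    haveI := hQ.1.1
    refine not_le_minimal D hID (U := U) (P := Q.comap al) ⟨⟨Ideal.IsPrime.comap al, ?_⟩, fun R hR hRQ => ?_⟩ ?_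
    · rw [← Ideal.map_le_iff_le_comap, hI0, Ideal.map_ofList]
      exact hQ.1.2
    · have hRp : R ≤ (U.2.primeIdealOf ⟨p, hpU⟩).asIdeal := hRQ.trans (fun a ha => by
        have := IsLocalRing.le_maximalIdeal hQ.1.1.ne_top (Ideal.mem_comap.1 ha)
        rwa [IsLocalization.AtPrime.to_map_mem_maximal_iff A (U.2.primeIdealOf ⟨p, hpU⟩).asIdeal] at this)
      haveI := hR.1
      have hdisj : Disjoint ((U.2.primeIdealOf ⟨p, hpU⟩).asIdeal.primeCompl : Set Γ(X, U.1)) R :=
        Set.disjoint_left.2 fun a ha haR => ha (hRp haR)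
      haveI : (R.map al).IsPrime := IsLocalization.isPrime_of_isPrime_disjoint _ A R hR.1 hdisj
      have h1 : R.map al ≤ Q := Ideal.map_le_iff_le_comap.2 hRQ
      have h2 : Ideal.ofList (rs.map al) ≤ R.map al := by
        rw [← Ideal.map_ofList, ← hI0]
        exact Ideal.map_mono hR.2
      have h3 := hQ.2 ⟨inferInstance, h2⟩ h1
      refine (Ideal.comap_mono h3).trans ?_
      exact le_of_eq (IsLocalization.under_map_of_isPrime_disjoint _ A hR.1 hdisj)
    · rw [← Ideal.map_le_iff_le_comap]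
      show (D.ideal U).map (X.presheaf.germ U.1 p hpU).hom ≤ Q
      rw [map_ideal_stalk D hpU hp, hx, Ideal.map_span, Set.image_singleton, Ideal.span_le,
        Set.singleton_subset_iff]
      exact hxQ
  have hex : WiebeLib.IsExact (rs.map al).get :=
    KRegLib.isExact_of_isWeaklyRegular _ (by rw [List.ofFn_get]; exact hweak)
  have hget : Ideal.ofList (rs.map al) = Ideal.span (Set.range (rs.map al).get) := by
    rw [Set.range_list_get]
  refine regH_of_span_eq hex ?_ ?_
  · rw [← hget, hJ]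
  · rw [← hget]
    exact hxreg

end Geometry

/-- The criterion needed for the twisted homology. -/
theorem hreg_of_lci {k : Type u} [Field k] (f : X ⟶ Spec (CommRingCat.of k)) [Smooth f] {n : ℕ}
    (IY : Fin n → X.IdealSheafData) (hY : ∀ i, BlowUp.IsEffCartierIdeal (IY i)) (D : X.IdealSheafData)
    (hI : RegImm.IsRegularImmersion RegImm.Kind.regular (⨆ i, IY i).subschemeι)
    (hID : ∀ z : ↥(⨆ i, IY i).subscheme, ringKrullDim ((⨆ i, IY i).subscheme.presheaf.stalk z) = 0 →
      (⨆ i, IY i).subschemeι.base z ∉ Set.range D.subschemeι.base)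
    (C : KoszSh.Cx (sumE IY) (Limits.Sigma.desc fun i => ClSub.idealModι (IY i))) (q : ℕ)
    (U : X.affineOpens) (x : Γ(X, U.1)) (hx : x ∈ nonZeroDivisors Γ(X, U.1)) (hxD : D.ideal U = Ideal.span {x}) :
    IsSMulRegular Γ(C.K.homology q, U.1) x := by
  have hC : ∀ p, Coh.IsQCoh (C.K.X p) := fun p => QCoh.isQCoh_of_isFinLocFree (isFinLocFree_term hY C p)
  refine IsSMulRegular.of_right_eq_zero_of_smul fun h hh => ?_
  refine QCoh.eq_zero_of_locally (M := C.K.homology q) U.1 h fun p hp => ?_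
  obtain ⟨g, hpg, hg⟩ := exists_chart IY hY U hp
  let W : X.affineOpens := X.affineBasicOpen (U := U) g
  have hle : W.1 ≤ U.1 := X.basicOpen_le g
  refine ⟨W.1, homOfLE hle, hpg, ?_⟩
  choose y hy hYy using hg
  obtain ⟨b, hb⟩ := exists_basis_sumE IY W.2 y hy hYy
  let x' : Γ(X, W.1) := (X.presheaf.map (homOfLE hle).op).hom x
  haveI : Nonempty W.1 := ⟨⟨p, hpg⟩⟩
  refine homology_reg C hC W.2 b x' ?_ q _ ?_
  · simp only [hb]
    refine regH_local _ _ fun P hP => ?_
    obtain ⟨r, hr, hrP⟩ := QCoh.exists_point W.2 ⟨P, hP.isPrime⟩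
    letI : Algebra Γ(X, W.1) (X.presheaf.stalk r) := (X.presheaf.germ W.1 r hr).hom.toAlgebra
    refine ⟨X.presheaf.stalk r, inferInstance, inferInstance, ?_, ?_⟩
    · have h := W.2.isLocalization_stalk ⟨r, hr⟩
      rw [hrP] at h
      exact h
    · refine regH_stalk f hI D hID y ?_ x' ?_ hr
      · rw [Scheme.IdealSheafData.ideal_iSup, iSup_apply, Ideal.span, Submodule.span_range_eq_iSup]
        exact iSup_congr hYy
      · rw [← D.map_ideal (U := W) (V := U) hle, hxD, Ideal.map_span, Set.image_singleton]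
        rfl
  · refine (Scheme.Modules.map_smul _ _ _ _).symm.trans ?_
    rw [hh, map_zero]

end Groth.Agent.KoszDiv
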