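import Groth.Agent.KoszDiv.Chain
import Groth.Agent.QCoh.DevissageSum
import Groth.Agent.QCoh.FT
import Groth.Agent.ModPairLib.Quot
import Groth.Agent.RelTildeX.SheafCrit

/-!
# Homology of the Koszul complex of twisted divisors
-/

set_option linter.style.haveILetI false
set_option linter.unusedSectionVars false
set_option backward.isDefEq.respectTransparency false
set_option backward.isDefEq.respectTransparency.types false
set_option maxHeartbeats 800000
set_option autoImplicit false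

universe u

open CategoryTheory CategoryTheory.Limits AlgebraicGeometry TopologicalSpace Opposite

noncomputable section

namespace Groth.Agent.KoszDiv

variable {X : Scheme.{u}}

theorem secL_comp {A B C : X.Modules} (a : A ⟶ B) (b : B ⟶ C) (U : X.Opens) (s : Γ(A, U)) :
    secL b U (secL a U s) = secL (a ≫ b) U s := rfl

theorem secL_congr {A B : X.Modules} {a b : A ⟶ B} (h : a = b) (U : X.Opens) (s : Γ(A, U)) :
    secL a U s = secL b U s := by rw [h]

theorem secL_injective {A B : X.Modules} (a : A ⟶ B) [Mono a] (U : X.Opens) : Function.Injective (secL a U) :=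
  QCoh.app_injective a U

theorem isQCoh_fibre {A B S : X.Modules} (hA : Coh.IsQCoh A) (hB : Coh.IsQCoh B) (hS : Coh.IsQCoh S)
    (f : A ⟶ S) (g : B ⟶ S) : Coh.IsQCoh (Limits.pullback f g) := by
  let δ : A ⊞ B ⟶ S := biprod.fst ≫ f - biprod.snd ≫ g
  have hAB : Coh.IsQCoh (A ⊞ B) :=
    QCoh.isQCoh_X₂ (S := ShortComplex.mk (biprod.inl : A ⟶ A ⊞ B) biprod.snd (by simp))
      (ShortComplex.Splitting.ofHasBinaryBiproduct A B).shortExact hA hB
  have hk : (kernel.ι δ ≫ biprod.fst) ≫ f = (kernel.ι δ ≫ biprod.snd) ≫ g := by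
    rw [← sub_eq_zero, Category.assoc, Category.assoc, ← Preadditive.comp_sub]
    exact kernel.condition δ
  let e : Limits.pullback f g ≅ kernel δ :=
    { hom := kernel.lift δ (biprod.lift (pullback.fst f g) (pullback.snd f g)) (by
        simp only [δ, Preadditive.comp_sub, biprod.lift_fst_assoc, biprod.lift_snd_assoc]
        exact sub_eq_zero.2 pullback.condition)
      inv := pullback.lift (kernel.ι δ ≫ biprod.fst) (kernel.ι δ ≫ biprod.snd) hk
      hom_inv_id := by ext <;> simp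
      inv_hom_id := by
        rw [← cancel_mono (kernel.ι δ)]
        refine biprod.hom_ext _ _ ?_ ?_ <;> simp }
  exact (QCoh.isQCoh_iff_iso e).2 (QCoh.isQCoh_kernel hAB hS δ)

theorem fibre_ext {A B S : X.Modules} (f : A ⟶ S) (g : B ⟶ S) (U : X.Opens) (p : Γ(Limits.pullback f g, U))
    (h1 : secL (pullback.fst f g) U p = 0) (h2 : secL (pullback.snd f g) U p = 0) : p = 0 := by
  let ι : Limits.pullback f g ⟶ A ⊞ B := biprod.lift (pullback.fst f g) (pullback.snd f g)
  haveI : Mono ι := ⟨fun {Z} a b hab => pullback.hom_ext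
    (by simpa [ι] using congrArg (fun t => t ≫ biprod.fst) hab)
    (by simpa [ι] using congrArg (fun t => t ≫ biprod.snd) hab)⟩
  refine secL_injective ι U ?_
  rw [map_zero, secL_congr (show ι = pullback.fst f g ≫ biprod.inl + pullback.snd f g ≫ biprod.inr from
    biprod.lift_eq) U p]
  show secL (pullback.fst f g ≫ biprod.inl) U p + secL (pullback.snd f g ≫ biprod.inr) U p = 0
  rw [← secL_comp, ← secL_comp, h1, h2, map_zero, map_zero, add_zero]

section Homology

variable (K : ChainComplex X.Modules ℕ) (hK : ∀ p, Coh.IsQCoh (K.X p)) (q : ℕ)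

/-- The index below `q`. -/
abbrev below : ℕ := (ComplexShape.down ℕ).next q

theorem exists_cycle {U : X.Opens} (z : Γ(K.X q, U)) (hz : secL (K.d q (below q)) U z = 0) :
    ∃ c : Γ(K.cycles q, U), secL (K.iCycles q) U c = z := by
  obtain ⟨w, hw⟩ := QCoh.exists_kernel_lift (K.d q (below q)) U z hz
  refine ⟨secL (K.liftCycles (kernel.ι (K.d q (below q))) (below q) rfl (kernel.condition _)) U w, ?_⟩
  rw [secL_comp, secL_congr (K.liftCycles_i _ _ _ _) U w]
  exact hw

theorem d_cycle {U : X.Opens} (c : Γ(K.cycles q, U)) : secL (K.d q (below q)) U (secL (K.iCycles q) U c) = 0 := by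
  rw [secL_comp, secL_congr (K.iCycles_d q (below q)) U c]
  rfl

include hK in
theorem isQCoh_cycles : Coh.IsQCoh (K.cycles q) :=
  (QCoh.isQCoh_iff_iso ((K.cyclesIsKernel q (below q) rfl).conePointUniqueUpToIso
    (kernelIsKernel (K.d q (below q))))).2 (QCoh.isQCoh_kernel (hK q) (hK _) _)

include hK in
theorem isQCoh_homology : Coh.IsQCoh (K.homology q) :=
  (QCoh.isQCoh_iff_iso ((K.homologyIsCokernel (q + 1) q (by simp)).coconePointUniqueUpToIso
    (cokernelIsCokernel (K.toCycles (q + 1) q)))).2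
    (QCoh.isQCoh_cokernel (hK _) (isQCoh_cycles K hK q) _)

include hK in
theorem homologyπ_eq_zero {U : X.Opens} (hU : IsAffineOpen U) (c : Γ(K.cycles q, U)) :
    secL (K.homologyπ q) U c = 0 ↔ ∃ v, secL (K.toCycles (q + 1) q) U v = c := by
  constructor
  · intro h
    let hl := K.homologyIsCokernel (q + 1) q (by simp : (ComplexShape.down ℕ).prev q = q + 1)
    have e : K.homologyπ q ≫ hl.desc (CokernelCofork.ofπ (cokernel.π (K.toCycles (q + 1) q))
        (cokernel.condition _)) = cokernel.π (K.toCycles (q + 1) q) := hl.fac _ WalkingParallelPair.one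
    refine ExtPowSh.exists_app_eq_of_cokernel (K.toCycles (q + 1) q) (hK _) (isQCoh_cycles K hK q) hU c ?_
    show secL (cokernel.π (K.toCycles (q + 1) q)) U c = 0
    refine (secL_congr e.symm U c).trans ?_
    rw [← secL_comp, h, map_zero]
  · rintro ⟨v, rfl⟩
    rw [secL_comp, secL_congr (K.toCycles_comp_homologyπ (q + 1) q) U v]
    rfl

include hK in
theorem homologyπ_surjective {U : X.Opens} (hU : IsAffineOpen U) :
    Function.Surjective (secL (K.homologyπ q) U) :=
  QCoh.app_surjective_of_epi (isQCoh_cycles K hK q) (isQCoh_homology K hK q) (K.homologyπ q) hU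

end Homology

variable {n : ℕ} {IY : Fin n → X.IdealSheafData} {D : X.IdealSheafData}

theorem main (hY : ∀ i, BlowUp.IsEffCartierIdeal (IY i)) (hD : BlowUp.IsEffCartierIdeal D)
    (C : KoszSh.Cx (sumE IY) (Limits.Sigma.desc fun i => ClSub.idealModι (IY i)))
    (C' : KoszSh.Cx (sumE fun i => IY i * D) (Limits.Sigma.desc fun i => ClSub.idealModι (IY i * D)))
    (q : ℕ)
    (hreg : ∀ (U : X.affineOpens) (x : Γ(X, U.1)), x ∈ nonZeroDivisors Γ(X, U.1) → D.ideal U = Ideal.span {x} →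
      IsSMulRegular Γ(C.K.homology q, U.1) x) :
    Nonempty (C'.K.homology q ≅ CohB1.tensorMod
      (Limits.pullback
        ((Scheme.Modules.pullback D.subschemeι ⋙ Scheme.Modules.pushforward D.subschemeι).map (C.K.homologyπ q))
        ((Scheme.Modules.pullbackPushforwardAdjunction D.subschemeι).unit.app (C.K.homology q)))
      (CohB1.tensorPow (ClSub.idealMod D) q)) := by
  have hB : Opens.IsBasis (Good D) := isBasis_good hD
  have hflf := isFinLocFree_term hY C
  have hC : ∀ p, Coh.IsQCoh (C.K.X p) := fun p => QCoh.isQCoh_of_isFinLocFree (hflf p)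
  have hC' : ∀ p, Coh.IsQCoh (C'.K.X p) := fun p => QCoh.isQCoh_of_isFinLocFree
    (isFinLocFree_term (IY := fun i => IY i * D) (fun i => ModPairLib.isEffCartier_mul (hY i) hD) C' p)
  let φ := phi C C'
  let j := below q
  haveI hmφ : ∀ p, Mono (φ.f p) := fun p => by
    refine QCoh.mono_of_isBasis _ hB fun U hU => ?_
    obtain ⟨hA, x, hx, hxD⟩ := hU
    obtain ⟨G, hG⟩ := exists_phi_equiv C C' hA hx hxD p
    show Function.Injective (secL (φ.f p) U)
    intro a b hab
    obtain ⟨a, rfl⟩ := G.surjective a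
    obtain ⟨b, rfl⟩ := G.surjective b
    have h : x ^ p • a = x ^ p • b := (hG a).symm.trans (hab.trans (hG b))
    refine congrArg G (sub_eq_zero.1 (eq_zero_of_pow_smul (hflf p) hA hx p _ ?_))
    rw [smul_sub, h, sub_self]
  let cm : C'.K.cycles q ⟶ C.K.cycles q := HomologicalComplex.cyclesMap φ q
  have hcm : cm ≫ C.K.iCycles q = C'.K.iCycles q ≫ φ.f q := HomologicalComplex.cyclesMap_i φ q
  haveI : Mono cm := mono_of_mono_fac hcm
  have hZ : Coh.IsQCoh (C.K.cycles q) := isQCoh_cycles C.K hC q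
  let W := CohB1.tensorMod (C.K.cycles q) (CohB1.tensorPow (ClSub.idealMod D) q)
  let μ : W ⟶ C.K.cycles q := mulMap D q (C.K.cycles q)
  have hgen : ∀ U, U ∈ Good D → ∃ (hA : IsAffineOpen U) (x : Γ(X, U))
      (e : Γ(CohB1.tensorPow (ClSub.idealMod D) q, U)), x ∈ nonZeroDivisors Γ(X, U) ∧
        D.ideal ⟨U, hA⟩ = Ideal.span {x} ∧ IsGen e ∧ ∀ c, secL μ U (InvX.tmul c e) = x ^ q • c := by
    rintro U ⟨hA, x, hx, hxD⟩
    obtain ⟨e, he, hex⟩ := exists_gen_pow hA hx hxD q
    refine ⟨hA, x, e, hx, hxD, he, fun c => ?_⟩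
    refine (mulMap_tmul D q (C.K.cycles q) U c e).trans ?_
    exact congrArg (fun r : Γ(X, U) => r • c) hex
  have htf : ∀ (U : X.Opens) (hA : IsAffineOpen U) (x : Γ(X, U)), x ∈ nonZeroDivisors Γ(X, U) →
      ∀ (m : ℕ) (c c' : Γ(C.K.cycles q, U)), x ^ m • c = x ^ m • c' → c = c' := by
    intro U hA x hx m c c' h
    refine secL_injective (C.K.iCycles q) U (sub_eq_zero.1 (eq_zero_of_pow_smul (hflf q) hA hx m _ ?_))
    rw [smul_sub, ← map_smul, ← map_smul, h, sub_self]
  haveI : Mono μ := by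
    refine QCoh.mono_of_isBasis _ hB fun U hU => ?_
    obtain ⟨hA, x, e, hx, hxD, he, hμ⟩ := hgen U hU
    show Function.Injective (secL μ U)
    intro a b hab
    obtain ⟨a, rfl⟩ := (bijective_tmul_gen hZ (isQCoh_pow D q) hA he).2 a
    obtain ⟨b, rfl⟩ := (bijective_tmul_gen hZ (isQCoh_pow D q) hA he).2 b
    exact congrArg (fun t => InvX.tmul t e) (htf U hA x hx q a b ((hμ a).symm.trans (hab.trans (hμ b))))
  obtain ⟨χ, hχ⟩ : ∃ χ : W ≅ C'.K.cycles q, χ.hom ≫ cm = μ := by
    refine exists_iso_of_range_eq μ cm hB fun U hU z => ?_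
    obtain ⟨hA, x, e, hx, hxD, he, hμ⟩ := hgen U hU
    constructor
    · rintro ⟨w, rfl⟩
      obtain ⟨c, rfl⟩ := (bijective_tmul_gen hZ (isQCoh_pow D q) hA he).2 w
      obtain ⟨G, hG⟩ := exists_phi_equiv C C' hA hx hxD q
      obtain ⟨c', hc'⟩ := exists_cycle C'.K q (G (secL (C.K.iCycles q) U c)) (by
        refine secL_injective (φ.f j) U ?_
        rw [map_zero, secL_comp, ← secL_congr (φ.comm q j) U, ← secL_comp]
        show secL (C.K.d q j) U (secL (φ.f q) U (G (secL (C.K.iCycles q) U c))) = 0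
        rw [show secL (φ.f q) U (G (secL (C.K.iCycles q) U c)) = x ^ q • secL (C.K.iCycles q) U c from hG _,
          map_smul, d_cycle, smul_zero])
      refine ⟨c', ?_⟩
      show secL cm U c' = secL μ U (InvX.tmul c e)
      refine secL_injective (C.K.iCycles q) U ?_
      rw [secL_comp, secL_congr hcm U, ← secL_comp, hc', hμ, map_smul]
      exact hG _
    · rintro ⟨c', rfl⟩
      obtain ⟨G, hG⟩ := exists_phi_equiv C C' hA hx hxD q
      obtain ⟨w, hw⟩ := G.surjective (secL (C'.K.iCycles q) U c')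
      have h1 : secL (C.K.iCycles q) U (secL cm U c') = x ^ q • w := by
        rw [secL_comp, secL_congr hcm U, ← secL_comp, ← hw]
        exact hG w
      have h2 : secL (C.K.d q j) U w = 0 := by
        refine eq_zero_of_pow_smul (hflf j) hA hx q _ ?_
        rw [← map_smul, ← h1]
        exact d_cycle C.K q _
      obtain ⟨c, hc⟩ := exists_cycle C.K q w h2
      refine ⟨InvX.tmul c e, ?_⟩
      show secL μ U (InvX.tmul c e) = secL cm U c'
      refine secL_injective (C.K.iCycles q) U ?_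
      rw [hμ, map_smul, hc, h1]
  let H := C.K.homology q
  have hH : Coh.IsQCoh H := isQCoh_homology C.K hC q
  let F := Scheme.Modules.pullback D.subschemeι ⋙ Scheme.Modules.pushforward D.subschemeι
  let η := (Scheme.Modules.pullbackPushforwardAdjunction D.subschemeι).unit
  have hF : ∀ M : X.Modules, Coh.IsQCoh M → Coh.IsQCoh (F.obj M) := fun M hM =>
    QCoh.isQCoh_pushforward D.subschemeι (QCoh.isQCoh_pullback D.subschemeι hM)
  let fst := pullback.fst (F.map (C.K.homologyπ q)) (η.app H)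
  let snd := pullback.snd (F.map (C.K.homologyπ q)) (η.app H)
  let P := Limits.pullback (F.map (C.K.homologyπ q)) (η.app H)
  have hP : Coh.IsQCoh P := isQCoh_fibre (hF _ hZ) hH (hF _ hH) _ _
  let uZ : C.K.cycles q ⟶ F.obj (C.K.cycles q) := η.app (C.K.cycles q)
  let uH : H ⟶ F.obj H := η.app H
  have hnat : C.K.homologyπ q ≫ uH = uZ ≫ F.map (C.K.homologyπ q) := η.naturality (C.K.homologyπ q)
  have uZs : ∀ {U : X.Opens} (hA : IsAffineOpen U) {x : Γ(X, U)}, D.ideal ⟨U, hA⟩ = Ideal.span {x} →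
      Function.Surjective (secL uZ U) ∧ ∀ s : Γ(C.K.cycles q, U), secL uZ U s = 0 ↔ ∃ t, x • t = s :=
    fun hA _ hxD => unit_sections hA hxD hZ
  have uHs : ∀ {U : X.Opens} (hA : IsAffineOpen U) {x : Γ(X, U)}, D.ideal ⟨U, hA⟩ = Ideal.span {x} →
      Function.Surjective (secL uH U) ∧ ∀ s : Γ(H, U), secL uH U s = 0 ↔ ∃ t, x • t = s :=
    fun hA _ hxD => unit_sections hA hxD hH
  let α : C.K.cycles q ⟶ P := pullback.lift uZ (C.K.homologyπ q) hnat.symm
  have hαf : α ≫ fst = uZ := pullback.lift_fst _ _ _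
  have hαs : α ≫ snd = C.K.homologyπ q := pullback.lift_snd _ _ _
  let b : W ⟶ CohB1.tensorMod P (CohB1.tensorPow (ClSub.idealMod D) q) := KoszTw.tensorMap α (𝟙 _)
  have hb : ∀ (U : X.Opens) (c : Γ(C.K.cycles q, U)) (e : Γ(CohB1.tensorPow (ClSub.idealMod D) q, U)),
      secL b U (InvX.tmul c e) = InvX.tmul (secL α U c) e := fun U c e => KoszTw.tensorMap_tmul α (𝟙 _) U c e
  haveI : Epi b := by
    refine RelTildeX.epi_of_locally b fun V s p hp => ?_
    obtain ⟨U, hU, hpU, hUV⟩ := Opens.isBasis_iff_nbhd.1 hB hp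
    obtain ⟨hA, x, e, hx, hxD, he, hμ⟩ := hgen U hU
    refine ⟨U, hUV, hpU, ?_⟩
    obtain ⟨t, ht⟩ := (bijective_tmul_gen hP (isQCoh_pow D q) hA he).2
      ((CohB1.tensorMod P (CohB1.tensorPow (ClSub.idealMod D) q)).presheaf.map (homOfLE hUV).op s)
    suffices h : ∃ c, secL α U c = t by
      obtain ⟨c, rfl⟩ := h
      exact ⟨InvX.tmul c e, (hb U c e).trans ht⟩
    obtain ⟨z₀, hz₀⟩ := homologyπ_surjective C.K hC q hA (secL snd U t)
    obtain ⟨z₁, hz₁⟩ := (uZs hA hxD).1 (secL fst U t)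
    have hd : secL uH U (secL (C.K.homologyπ q) U (z₀ - z₁)) = 0 := by
      rw [map_sub, map_sub, hz₀, secL_comp (C.K.homologyπ q),
        secL_congr hnat U z₁, ← secL_comp, sub_eq_zero]
      refine Eq.trans ?_ (congrArg (secL (F.map (C.K.homologyπ q)) U) hz₁.symm)
      rw [secL_comp]
      exact (secL_congr pullback.condition U t).symm
    obtain ⟨t', ht'⟩ := ((uHs hA hxD).2 _).1 hd
    obtain ⟨z₂, rfl⟩ := homologyπ_surjective C.K hC q hA t'
    refine ⟨z₁ + x • z₂, sub_eq_zero.1 (fibre_ext _ _ U _ ?_ ?_)⟩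
    · rw [map_sub, secL_comp, secL_congr hαf U, map_add]
      have h0 : secL uZ U (x • z₂) = 0 := ((uZs hA hxD).2 _).2 ⟨z₂, rfl⟩
      rw [h0, add_zero, sub_eq_zero]
      exact hz₁
    · rw [map_sub, secL_comp, secL_congr hαs U, map_add, map_smul, sub_eq_zero]
      refine (congrArg (secL (C.K.homologyπ q) U z₁ + ·) ht').trans ?_
      rw [map_sub, hz₀]
      exact add_sub_cancel _ _
  haveI : Epi (χ.hom ≫ C'.K.homologyπ q) := inferInstance
  refine nonempty_iso_of_ker_eq (χ.hom ≫ C'.K.homologyπ q) b hB fun U hU w => ?_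
  obtain ⟨hA, x, e, hx, hxD, he, hμ⟩ := hgen U hU
  obtain ⟨c, rfl⟩ := (bijective_tmul_gen hZ (isQCoh_pow D q) hA he).2 w
  obtain ⟨G, hG⟩ := exists_phi_equiv C C' hA hx hxD (q + 1)
  have hzero : InvX.tmul (0 : Γ(P, U)) e = 0 := by
    rw [← zero_smul Γ(X, U) (0 : Γ(P, U)), InvX.tmul_smul_left, zero_smul]
  have hk : ∀ v, secL (C.K.iCycles q) U (secL cm U (secL (C'.K.toCycles (q + 1) q) U (G v))) =
      x ^ (q + 1) • secL (C.K.iCycles q) U (secL (C.K.toCycles (q + 1) q) U v) := by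
    intro v
    rw [secL_comp, secL_comp, secL_congr (show C'.K.toCycles (q + 1) q ≫ cm ≫ C.K.iCycles q =
      φ.f (q + 1) ≫ C.K.d (q + 1) q by rw [hcm, ← Category.assoc, C'.K.toCycles_i, φ.comm]) U,
      ← secL_comp (φ.f (q + 1)), secL_comp (C.K.toCycles (q + 1) q),
      secL_congr (C.K.toCycles_i (q + 1) q) U v, ← map_smul]
    exact congrArg _ (hG v)
  show secL (C'.K.homologyπ q) U (secL χ.hom U (InvX.tmul c e)) = 0 ↔ secL b U (InvX.tmul c e) = 0
  have h1 : secL (C'.K.homologyπ q) U (secL χ.hom U (InvX.tmul c e)) = 0 ↔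
      ∃ v, x • secL (C.K.toCycles (q + 1) q) U v = c := by
    have hχc : secL cm U (secL χ.hom U (InvX.tmul c e)) = x ^ q • c := by
      rw [secL_comp, secL_congr hχ U]
      exact hμ c
    have key : ∀ v, secL (C'.K.toCycles (q + 1) q) U (G v) = secL χ.hom U (InvX.tmul c e) ↔
        x • secL (C.K.toCycles (q + 1) q) U v = c := fun v => by
      rw [← (secL_injective cm U).eq_iff, hχc, ← (secL_injective (C.K.iCycles q) U).eq_iff, hk,
        pow_succ, mul_smul, ← map_smul (secL (C.K.iCycles q) U) x, ← map_smul (secL (C.K.iCycles q) U) (x ^ q),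
        (secL_injective (C.K.iCycles q) U).eq_iff]
      exact ⟨fun h => htf U hA x hx q _ _ h, fun h => by rw [h]⟩
    rw [homologyπ_eq_zero C'.K hC' q hA]
    exact ⟨fun ⟨v', hv'⟩ => ⟨G.symm v', (key _).1 (by rw [G.apply_symm_apply]; exact hv')⟩,
      fun ⟨v, hv⟩ => ⟨G v, (key v).2 hv⟩⟩
  have h2 : secL b U (InvX.tmul c e) = 0 ↔
      secL uZ U c = 0 ∧ secL (C.K.homologyπ q) U c = 0 := by
    rw [hb]
    constructor
    · intro h
      have h0 : secL α U c = 0 := (bijective_tmul_gen hP (isQCoh_pow D q) hA he).1 (h.trans hzero.symm)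
      exact ⟨(secL_congr hαf U c).symm.trans ((congrArg (secL fst U) h0).trans (map_zero _)),
        (secL_congr hαs U c).symm.trans ((congrArg (secL snd U) h0).trans (map_zero _))⟩
    · rintro ⟨hu, hp⟩
      rw [show secL α U c = 0 from fibre_ext _ _ U _ ((secL_congr hαf U c).trans hu)
        ((secL_congr hαs U c).trans hp)]
      exact hzero
  rw [h1, h2, homologyπ_eq_zero C.K hC q hA]
  refine ⟨fun ⟨v, hv⟩ => ⟨((uZs hA hxD).2 c).2 ⟨_, hv⟩, ⟨x • v, by rw [map_smul, hv]⟩⟩, ?_⟩
  rintro ⟨hu, v, hv⟩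
  obtain ⟨c₁, rfl⟩ := ((uZs hA hxD).2 c).1 hu
  have h0 : x • secL (C.K.homologyπ q) U c₁ = 0 := by
    rw [← map_smul, (homologyπ_eq_zero C.K hC q hA _).2 ⟨v, hv⟩]
  have hc₁ : secL (C.K.homologyπ q) U c₁ = 0 :=
    hreg ⟨U, hA⟩ x hx hxD (show x • _ = x • (0 : Γ(C.K.homology q, U)) by rw [h0, smul_zero])
  obtain ⟨v₁, hv₁⟩ := (homologyπ_eq_zero C.K hC q hA _).1 hc₁
  exact ⟨v₁, congrArg (x • ·) hv₁⟩

end Groth.Agent.KoszDiv
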