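import Groth.Agent.KoszDiv.Reg
import Groth.Agent.KoszShX.Alg

/-!
# The Koszul complex of the constant sequence
-/

set_option autoImplicit false
set_option linter.style.haveILetI false
set_option linter.unusedSectionVars false
set_option backward.isDefEq.respectTransparency false
set_option backward.isDefEq.respectTransparency.types false

universe u

noncomputable section

namespace Groth.Agent.KoszDiv

open WiebeLib KRegLib

variable {R : Type u} [CommRing R]

theorem d_smul_seq (r : R) : ∀ (n : ℕ) (g : Fin n → R) (k : ℕ) (x : Ko R n (k + 1)),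
    d n (fun i => r * g i) k x = r • d n g k x
  | 0, g, k, x => by simp [d]
  | n + 1, g, 0, x => by
    show d n (fun i => r * g i.succ) 0 (fstL n 0 x) + (r * g 0) • sndL n 0 x =
      r • ((d n (fun i => g i.succ) 0 (fstL n 0 x) + g 0 • sndL n 0 x : Ko R n 0))
    rw [d_smul_seq r n, smul_add, mul_smul]
  | n + 1, g, k + 1, x => by
    apply ko_ext
    · show d n (fun i => r * g i.succ) (k + 1) (fstL n (k + 1) x) + (r * g 0) • sndL n (k + 1) x =
        r • (d n (fun i => g i.succ) (k + 1) (fstL n (k + 1) x) + g 0 • sndL n (k + 1) x)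
      rw [d_smul_seq r n, smul_add, mul_smul]
    · show -(d n (fun i => r * g i.succ) k (sndL n (k + 1) x)) = r • -(d n (fun i => g i.succ) k (sndL n (k + 1) x))
      rw [d_smul_seq r n, smul_neg]

theorem U_prodRows {m n : ℕ} (C : Fin m → Fin n → R) : ∀ (k : ℕ) (V : Fin k → Fin m → R),
    U m C k (prodRows k V) = prodRows k (fun i => vecMul (V i) C)
  | 0, V => by
    rw [U_zero_apply]
    show (base n).symm (base m ((base m).symm 1)) = (base n).symm 1
    rw [LinearEquiv.apply_symm_apply]
  | k + 1, V => by rw [prodRows_succ, prodRows_succ, U_eta, U_prodRows C k]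

/-- The vectors spanning the kernel of the sum of coordinates. -/
def cmat (R : Type u) [CommRing R] : ∀ n : ℕ, Fin (n - 1) → Fin n → R
  | 0 => fun i => i.elim0
  | n + 1 => fun i => Pi.single (i : Fin n).succ 1 - Pi.single 0 1

theorem sum_cmat : ∀ (n : ℕ) (i : Fin (n - 1)), ∑ j, cmat R n i j * (1 : R) = 0
  | 0, i => i.elim0
  | n + 1, i => by simp [cmat, Finset.sum_sub_distrib, Pi.single_apply]

theorem d_zero_seq (n k : ℕ) (x : Ko R n (k + 1)) : d n (fun _ => (0 : R)) k x = 0 := by
  have h := d_smul_seq (0 : R) n (fun _ => (0 : R)) k x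
  simpa using h

/-- The matrix carrying the constant sequence to the first coordinate. -/
def cplus (R : Type u) [CommRing R] (n : ℕ) : Fin (n + 1) → Fin (n + 1) → R :=
  Fin.cons (Pi.single 0 1) (cmat R (n + 1))

/-- Its inverse. -/
def cminus (R : Type u) [CommRing R] (n : ℕ) : Fin (n + 1) → Fin (n + 1) → R :=
  Fin.cons (Pi.single 0 1) fun i => Pi.single i.succ 1 + Pi.single 0 1

theorem vecMul_single {m p : ℕ} (i : Fin m) (C : Fin m → Fin p → R) : vecMul (Pi.single i 1) C = C i := by
  simp [vecMul, Pi.single_apply, ite_smul]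

theorem vecMul_add {m p : ℕ} (v w : Fin m → R) (C : Fin m → Fin p → R) :
    vecMul (v + w) C = vecMul v C + vecMul w C := by
  simp [vecMul, add_smul, Finset.sum_add_distrib]

theorem vecMul_sub {m p : ℕ} (v w : Fin m → R) (C : Fin m → Fin p → R) :
    vecMul (v - w) C = vecMul v C - vecMul w C := by
  simp [vecMul, sub_smul, Finset.sum_sub_distrib]

theorem cminus_cplus (n : ℕ) : matMul (cminus R n) (cplus R n) = fun i => Pi.single i 1 := by
  funext i
  show vecMul (cminus R n i) (cplus R n) = _
  induction i using Fin.cases with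
  | zero => rw [cminus, Fin.cons_zero, vecMul_single, cplus, Fin.cons_zero]
  | succ i =>
    rw [cminus, Fin.cons_succ, vecMul_add, vecMul_single, vecMul_single, cplus, Fin.cons_succ, Fin.cons_zero]
    exact sub_add_cancel _ _

theorem cplus_cminus (n : ℕ) : matMul (cplus R n) (cminus R n) = fun i => Pi.single i 1 := by
  funext i
  show vecMul (cplus R n i) (cminus R n) = _
  induction i using Fin.cases with
  | zero => rw [cplus, Fin.cons_zero, vecMul_single, cminus, Fin.cons_zero]
  | succ i =>
    rw [cplus, Fin.cons_succ]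
    show vecMul ((Pi.single (i : Fin n).succ 1 : Fin (n + 1) → R) - (Pi.single 0 1 : Fin (n + 1) → R)) (cminus R n) = _
    rw [vecMul_sub, vecMul_single, vecMul_single, cminus, Fin.cons_succ, Fin.cons_zero]
    exact add_sub_cancel_right _ _

theorem U_cplus_emb {n : ℕ} (k : ℕ) (u : Ko R n k) :
    U (n + 1) (cplus R n) k (emb n k u) = U n (cmat R (n + 1)) k u := by
  cases k with
  | zero => rw [U_zero_apply, U_zero_apply]; rfl
  | succ k =>
    show U n (fun i => cplus R n i.succ) (k + 1) (fstL n k (emb n (k + 1) u)) +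
      eta (n + 1) (cplus R n 0) k (U n (fun i => cplus R n i.succ) k (sndL n k (emb n (k + 1) u))) = _
    rw [show sndL n k (emb n (k + 1) u) = 0 from rfl, map_zero, map_zero, add_zero]
    rfl

theorem emb_injective (n k : ℕ) : Function.Injective (emb (R := R) n k) := by
  intro u v h
  cases k with
  | zero => exact h
  | succ k => exact congrArg (fstL n k) h

theorem cplus_seq (n : ℕ) (i : Fin (n + 1)) :
    ∑ j, cplus R n i j * 1 = (Fin.cons 1 (fun _ => 0) : Fin (n + 1) → R) i := by
  induction i using Fin.cases with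
  | zero => simp [cplus, Pi.single_apply]
  | succ i => rw [cplus, Fin.cons_succ, Fin.cons_succ]; exact sum_cmat (n + 1) i

theorem cminus_seq (n : ℕ) (i : Fin (n + 1)) :
    ∑ j, cminus R n i j * (Fin.cons 1 (fun _ => 0) : Fin (n + 1) → R) j = 1 := by
  induction i using Fin.cases with
  | zero => simp [cminus, Pi.single_apply, Fin.sum_univ_succ]
  | succ i => simp [cminus, Pi.single_apply, Fin.sum_univ_succ, (Fin.succ_ne_zero i).symm]

theorem U_cmat_injective : ∀ (n k : ℕ), Function.Injective (U (n - 1) (cmat R n) k)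
  | 0, k => fun u v h => by
    cases k with
    | zero =>
      apply (base (R := R) 0).injective
      have h' := congrArg (base (R := R) 0) h
      rwa [U_zero_apply, U_zero_apply, LinearEquiv.apply_symm_apply, LinearEquiv.apply_symm_apply] at h'
    | succ k => haveI := subsingleton_ko R (Nat.succ_pos k); exact Subsingleton.elim _ _
  | n + 1, k => fun u v h => by
    refine emb_injective n k ?_
    have h2 : U (n + 1) (cplus R n) k (emb n k u) = U (n + 1) (cplus R n) k (emb n k v) := by
      rw [U_cplus_emb, U_cplus_emb]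
      exact h
    rw [← U_one (n + 1) k (emb n k u), ← cplus_cminus, ← U_comp, h2, U_comp, cplus_cminus, U_one]

theorem cyc_one_iff : ∀ (n k : ℕ) (z : Ko R n k),
    cyc n (fun _ => (1 : R)) k z ↔ ∃ u, U (n - 1) (cmat R n) k u = z
  | n, 0, z => by
    refine ⟨fun _ => ⟨(base (n - 1)).symm (base n z), ?_⟩, fun _ => trivial⟩
    rw [U_zero_apply, LinearEquiv.apply_symm_apply, LinearEquiv.symm_apply_apply]
  | 0, k + 1, z => by
    haveI := subsingleton_ko R (Nat.succ_pos k)
    exact ⟨fun _ => ⟨0, Subsingleton.elim _ _⟩, fun _ => rfl⟩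
  | n + 1, k + 1, z => by
    constructor
    · intro hz
      let w := U (n + 1) (cminus R n) (k + 1) z
      have hw : d (n + 1) (Fin.cons 1 fun _ => 0) k w = 0 := by
        rw [d_U, funext (cminus_seq n), show d (n + 1) (fun _ => (1 : R)) k z = 0 from hz, map_zero]
      have hsnd : sndL n k w = 0 := by
        cases k with
        | zero =>
          have h : d n (fun _ => (0 : R)) 0 (fstL n 0 w) +
              (Fin.cons 1 (fun _ => 0) : Fin (n + 1) → R) 0 • sndL n 0 w = 0 := hw
          rw [d_zero_seq, zero_add, Fin.cons_zero, one_smul] at h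
          exact h
        | succ k =>
          have h : d n (fun _ => (0 : R)) (k + 1) (fstL n (k + 1) w) +
              (Fin.cons 1 (fun _ => 0) : Fin (n + 1) → R) 0 • sndL n (k + 1) w = 0 :=
            (congrArg (fstL n k) hw).trans (map_zero _)
          rw [d_zero_seq, zero_add, Fin.cons_zero, one_smul] at h
          exact h
      refine ⟨fstL n k w, (U_cplus_emb (n := n) (k + 1) _).symm.trans ?_⟩
      rw [show emb n (k + 1) (fstL n k w) = w from ko_ext rfl hsnd.symm, U_comp, cminus_cplus, U_one]
    · rintro ⟨u, rfl⟩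
      show d (n + 1) (fun _ => (1 : R)) k (U (n + 1 - 1) (cmat R (n + 1)) (k + 1) u) = 0
      rw [d_U, funext (sum_cmat (n + 1)), d_zero_seq, map_zero]

theorem cyc_smul_iff {n k : ℕ} {y : R} (hy : y ∈ nonZeroDivisors R) (z : Ko R n k) :
    cyc n (fun _ => y) k z ↔ cyc n (fun _ => (1 : R)) k z := by
  cases k with
  | zero => exact Iff.rfl
  | succ k =>
    have h : d n (fun _ => y) k z = y • d n (fun _ => (1 : R)) k z := by
      rw [← d_smul_seq]
      simp only [mul_one]
    show d n (fun _ => y) k z = 0 ↔ d n (fun _ => (1 : R)) k z = 0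
    rw [h]
    refine ⟨fun h0 => funext fun i => hy.1 _ (congrFun h0 i), fun h0 => by rw [h0, smul_zero]⟩

/-- With `1 ≤ n`, cycles of the constant sequence `1` are boundaries. -/
theorem cyc_one_range {n k : ℕ} (hn : 1 ≤ n) (z : Ko R n k) :
    cyc n (fun _ => (1 : R)) k z ↔ ∃ v, d n (fun _ => (1 : R)) k v = z := by
  have htop : Ideal.span (Set.range fun _ : Fin n => (1 : R)) = ⊤ :=
    Ideal.eq_top_of_isUnit_mem _ (Ideal.subset_span ⟨⟨0, hn⟩, rfl⟩) isUnit_one
  cases k with
  | zero =>
    refine ⟨fun _ => ?_, fun _ => trivial⟩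
    have h : z ∈ LinearMap.range (d n (fun _ => (1 : R)) 0) := by
      rw [mem_range_d_zero, htop]
      trivial
    exact h
  | succ k =>
    refine ⟨fun h => KRegLib.isExact_of_span_eq_top htop k z h, ?_⟩
    rintro ⟨v, rfl⟩
    exact d_d _ _ _ _

end Groth.Agent.KoszDiv
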