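import Groth.Agent.KoszDiv.Main
import Groth.Agent.KoszDiv.Lci
import Groth.Agent.KoszDiv.SameAlg

/-!
# The Koszul complex of copies of one divisor
-/

set_option linter.style.haveILetI false
set_option linter.unusedSectionVars false
set_option backward.isDefEq.respectTransparency false
set_option backward.isDefEq.respectTransparency.types false
set_option maxHeartbeats 800000
set_option autoImplicit false

universe u

open CategoryTheory CategoryTheory.Limits AlgebraicGeometry TopologicalSpace Opposite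

noncomputable section

namespace Groth.Agent.KoszDiv

open WiebeLib

variable {X : Scheme.{u}}

theorem exists_basis_sigma {n : ℕ} (M : Fin n → X.Modules) {W : X.Opens} (e : ∀ i, Γ(M i, W))
    (he : ∀ i, IsGen (e i)) :
    ∃ b : Module.Basis (Fin n) Γ(X, W) Γ(∐ M, W), ∀ i, b i = secL (Limits.Sigma.ι M i) W (e i) := by
  let v : Fin n → Γ(∐ M, W) := fun i => secL (Limits.Sigma.ι M i) W (e i)
  have hπ : ∀ (i : Fin n) (c : Fin n → Γ(X, W)), secL (Limits.Sigma.π M i) W (∑ j, c j • v j) = c i • e i := by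
    intro i c
    rw [map_sum, Finset.sum_eq_single i]
    · rw [map_smul]
      exact congrArg (c i • ·) (congrArg (fun φ : M i ⟶ M i => secL φ W (e i)) (Limits.Sigma.ι_π_eq_id M i))
    · intro j _ hj
      rw [map_smul]
      exact (congrArg (c j • ·) (congrArg (fun φ : M j ⟶ M i => secL φ W (e j))
        (Limits.Sigma.ι_π_of_ne M hj))).trans (smul_zero _)
    · exact fun h => (h (Finset.mem_univ i)).elim
  have hbij : Function.Bijective fun c : Fin n → Γ(X, W) => ∑ i, c i • v i := by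
    refine ⟨fun c c' h => funext fun i => (he i).1 ?_, fun z => ?_⟩
    · exact (hπ i c).symm.trans ((congrArg (secL (Limits.Sigma.π M i) W) h).trans (hπ i c'))
    · choose c hc using fun i => (he i).2 (secL (Limits.Sigma.π M i) W z)
      refine ⟨c, Eq.trans ?_ (apply_sum_π_ι M W z)⟩
      refine Finset.sum_congr rfl fun i _ => ?_
      show c i • secL (Limits.Sigma.ι M i) W (e i) = _
      rw [← map_smul]
      exact congrArg _ (hc i)
  obtain ⟨b, hb⟩ := TopDiff.basis_of_unique v hbij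
  exact ⟨b, fun i => congrFun hb i⟩

/-- The free module of rank `n`. -/
abbrev free (X : Scheme.{u}) (n : ℕ) : X.Modules := ∐ fun _ : Fin n => Coh.structureModule X

/-- The unit section of the structure module. -/
def oneS (U : X.Opens) : Γ(Coh.structureModule X, U) := (1 : Γ(X, U))

theorem isGen_oneS (U : X.Opens) : IsGen (oneS (X := X) U) :=
  ⟨fun r r' h => by
    have h' : r * 1 = r' * 1 := h
    simpa using h', fun m => ⟨m, mul_one (show Γ(X, U) from m)⟩⟩

theorem exists_basis_free (n : ℕ) (W : X.Opens) :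
    ∃ b : Module.Basis (Fin n) Γ(X, W) Γ(free X n, W),
      ∀ i, b i = secL (Limits.Sigma.ι (fun _ : Fin n => Coh.structureModule X) i) W (oneS W) :=
  exists_basis_sigma _ _ fun _ => isGen_oneS W

/-- Affine-local descriptions of an exterior power. -/
structure LocData (p : ℕ) (E L : X.Modules) where
  /-- the identification -/
  φ : ∀ U : X.affineOpens, Γ(L, U.1) ≃ₗ[Γ(X, U.1)] ↥(⋀[Γ(X, U.1)]^p Γ(E, U.1))
  /-- compatibility -/
  res : ∀ (U V : X.affineOpens) (h : V.1 ≤ U.1) (e : Fin p → Γ(E, U.1)),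
    L.val.map (homOfLE h).op ((φ U).symm (exteriorPower.ιMulti _ p e)) =
      (φ V).symm (exteriorPower.ιMulti _ p (fun j => E.val.map (homOfLE h).op (e j)))

theorem nonempty_locData {p : ℕ} {E L : X.Modules} (h : ExtPow.IsExtPow p E L) : Nonempty (LocData p E L) :=
  ⟨⟨h.choose, h.choose_spec⟩⟩

/-- The data carried by a Koszul complex. -/
def cxData {E : X.Modules} {s : E ⟶ Coh.structureModule X} (C : KoszSh.Cx E s) (p : ℕ) : LocData p E (C.K.X p) :=
  ⟨C.loc p, C.loc_res p⟩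

theorem exists_extMap {p : ℕ} {E F L M : X.Modules} (f : E ⟶ F) (a : LocData p E L) (b : LocData p F M) :
    ∃ φ : L ⟶ M, ∀ (U : X.affineOpens) (z : Γ(L, U.1)),
      b.φ U (secL φ U.1 z) = exteriorPower.map p (secL f U.1) (a.φ U z) := by
  let m : ∀ U : X.affineOpens, Γ(L, U.1) →ₗ[Γ(X, U.1)] Γ(M, U.1) := fun U =>
    (b.φ U).symm.toLinearMap.comp ((exteriorPower.map p (secL f U.1)).comp (a.φ U).toLinearMap)
  have hm : ∀ (U : X.affineOpens) (e : Fin p → Γ(E, U.1)),
      m U ((a.φ U).symm (exteriorPower.ιMulti _ p e)) =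
        (b.φ U).symm (exteriorPower.ιMulti _ p (fun j => f.app U.1 (e j))) := fun U e => by
    show (b.φ U).symm (exteriorPower.map p (secL f U.1) (a.φ U ((a.φ U).symm _))) = _
    rw [LinearEquiv.apply_symm_apply]
    exact congrArg (b.φ U).symm (exteriorPower.map_apply_ιMulti (secL f U.1) e)
  obtain ⟨φ, hφ⟩ := ExtPowSh.exists_hom_of_affine (M := L) (N := M) m fun U V h z => by
    obtain ⟨w, rfl⟩ := (a.φ U).symm.surjective z
    refine LinearMap.congr_fun (ExtPowSh.hom_ext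
      (φ := (ExtPowSh.resL M h).comp ((m U).comp (a.φ U).symm.toLinearMap))
      (ψ := (m V).comp ((ExtPowSh.resL L h).comp (a.φ U).symm.toLinearMap)) fun e => ?_) w
    show ExtPowSh.resL M h (m U _) = m V (ExtPowSh.resL L h _)
    refine (congrArg (ExtPowSh.resL M h) (hm U e)).trans ((b.res U V h _).trans ?_)
    refine Eq.trans ?_ ((hm V _).symm.trans (congrArg (m V) (a.res U V h e).symm))
    exact congrArg _ (congrArg _ (funext fun j => ExtPowSh.map_appL f h (e j)))
  refine ⟨φ, fun U z => ?_⟩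
  rw [show secL φ U.1 z = m U z from hφ U z]
  exact (b.φ U).apply_symm_apply _

/-- Coordinates on an affine open. -/
def coord {p n : ℕ} {E L : X.Modules} (a : LocData p E L) (U : X.affineOpens)
    (b : Module.Basis (Fin n) Γ(X, U.1) Γ(E, U.1)) : Γ(L, U.1) →ₗ[Γ(X, U.1)] Ko Γ(X, U.1) n p :=
  (KoszShX.cmp b p).comp (a.φ U).toLinearMap

theorem coord_bijective {p n : ℕ} {E L : X.Modules} (a : LocData p E L) (U : X.affineOpens) [Nonempty U.1]
    (b : Module.Basis (Fin n) Γ(X, U.1) Γ(E, U.1)) : Function.Bijective (coord a U b) :=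
  (KoszShX.cmp_bijective b p).comp (a.φ U).bijective

theorem coord_map {p m n : ℕ} {E F L M : X.Modules} {f : E ⟶ F} {a : LocData p E L} {a' : LocData p F M}
    {φ : L ⟶ M} (hφ : ∀ (U : X.affineOpens) (z : Γ(L, U.1)),
      a'.φ U (secL φ U.1 z) = exteriorPower.map p (secL f U.1) (a.φ U z))
    (U : X.affineOpens) (b : Module.Basis (Fin m) Γ(X, U.1) Γ(E, U.1))
    (b' : Module.Basis (Fin n) Γ(X, U.1) Γ(F, U.1)) (C : Fin m → Fin n → Γ(X, U.1))
    (hC : ∀ i, b'.equivFun (secL f U.1 (b i)) = C i) (z : Γ(L, U.1)) :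
    coord a' U b' (secL φ U.1 z) = WiebeLib.U m C p (coord a U b z) := by
  show KoszShX.cmp b' p (a'.φ U (secL φ U.1 z)) = WiebeLib.U m C p (KoszShX.cmp b p (a.φ U z))
  rw [hφ]
  refine LinearMap.congr_fun (f := (KoszShX.cmp b' p).comp (exteriorPower.map p (secL f U.1)))
    (g := (WiebeLib.U m C p).comp (KoszShX.cmp b p)) ?_ (a.φ U z)
  refine exteriorPower.linearMap_ext (AlternatingMap.ext fun e => ?_)
  show KoszShX.cmp b' p (exteriorPower.map p (secL f U.1) (exteriorPower.ιMulti _ p e)) =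
    WiebeLib.U m C p (KoszShX.cmp b p (exteriorPower.ιMulti _ p e))
  rw [exteriorPower.map_apply_ιMulti, KoszShX.cmp_ιMulti, KoszShX.cmp_ιMulti, U_prodRows]
  refine congrArg _ (funext fun i => ?_)
  show b'.equivFun (secL f U.1 (e i)) = _
  conv_lhs => rw [← b.sum_equivFun (e i)]
  simp only [map_sum, map_smul, hC, KRegLib.vecMul]

theorem prodRows_smul {R : Type u} [CommRing R] {n : ℕ} (y : R) (p : ℕ) (V : Fin p → Fin n → R) :
    prodRows p (fun i => y • V i) = y ^ p • prodRows p V := by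
  rw [(prodRows (R := R) (n := n) p).map_smul_univ, Finset.prod_const, Finset.card_fin]

theorem coord_scale {p n : ℕ} {E F L M : X.Modules} {f : E ⟶ F} {a : LocData p E L} {a' : LocData p F M}
    {φ : L ⟶ M} (hφ : ∀ (U : X.affineOpens) (z : Γ(L, U.1)),
      a'.φ U (secL φ U.1 z) = exteriorPower.map p (secL f U.1) (a.φ U z))
    (U : X.affineOpens) (b : Module.Basis (Fin n) Γ(X, U.1) Γ(E, U.1))
    (b' : Module.Basis (Fin n) Γ(X, U.1) Γ(F, U.1)) (y : Γ(X, U.1))
    (hy : ∀ i, secL f U.1 (b i) = y • b' i) (z : Γ(L, U.1)) :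
    coord a' U b' (secL φ U.1 z) = y ^ p • coord a U b z := by
  show KoszShX.cmp b' p (a'.φ U (secL φ U.1 z)) = y ^ p • KoszShX.cmp b p (a.φ U z)
  rw [hφ]
  refine LinearMap.congr_fun (f := (KoszShX.cmp b' p).comp (exteriorPower.map p (secL f U.1)))
    (g := y ^ p • KoszShX.cmp b p) ?_ (a.φ U z)
  refine exteriorPower.linearMap_ext (AlternatingMap.ext fun e => ?_)
  show KoszShX.cmp b' p (exteriorPower.map p (secL f U.1) (exteriorPower.ιMulti _ p e)) =
    y ^ p • KoszShX.cmp b p (exteriorPower.ιMulti _ p e)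
  rw [exteriorPower.map_apply_ιMulti, KoszShX.cmp_ιMulti, KoszShX.cmp_ιMulti, ← prodRows_smul]
  refine congrArg _ (funext fun i => ?_)
  show b'.equivFun (secL f U.1 (e i)) = _
  conv_lhs => rw [← b.sum_equivFun (e i)]
  rw [map_sum]
  simp only [map_smul (secL f U.1), hy]
  rw [Finset.sum_congr rfl fun l _ => smul_comm _ y _, ← Finset.smul_sum, map_smul, ← b'.equivFun_symm_apply,
    LinearEquiv.apply_symm_apply]

/-- The inclusion `O^{n-1} → O^n` of the kernel of the sum. -/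
def jMap0 : ∀ n : ℕ, free X (n - 1) ⟶ free X n
  | 0 => Limits.Sigma.desc fun i => (i : Fin 0).elim0
  | n + 1 => Limits.Sigma.desc fun i => Limits.Sigma.ι (fun _ : Fin (n + 1) => Coh.structureModule X) (i : Fin n).succ -
      Limits.Sigma.ι (fun _ : Fin (n + 1) => Coh.structureModule X) 0

theorem secL_jMap0 {W : X.Opens} : ∀ (n : ℕ) (b1 : Module.Basis (Fin (n - 1)) Γ(X, W) Γ(free X (n - 1), W))
    (_ : ∀ i, b1 i = secL (Limits.Sigma.ι (fun _ : Fin (n - 1) => Coh.structureModule X) i) W (oneS W))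
    (b0 : Module.Basis (Fin n) Γ(X, W) Γ(free X n, W))
    (_ : ∀ i, b0 i = secL (Limits.Sigma.ι (fun _ : Fin n => Coh.structureModule X) i) W (oneS W))
    (i : Fin (n - 1)), b0.equivFun (secL (jMap0 n) W (b1 i)) = cmat Γ(X, W) n i
  | 0, _, _, _, _, i => i.elim0
  | n + 1, b1, hb1, b0, hb0, i => by
    rw [hb1, secL_comp, secL_congr (show Limits.Sigma.ι (fun _ : Fin (n + 1 - 1) => Coh.structureModule X) i ≫
        jMap0 (n + 1) = Limits.Sigma.ι (fun _ : Fin (n + 1) => Coh.structureModule X) (i : Fin n).succ -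
          Limits.Sigma.ι (fun _ : Fin (n + 1) => Coh.structureModule X) 0 from Limits.Sigma.ι_desc _ _) W]
    show b0.equivFun (secL (Limits.Sigma.ι (fun _ : Fin (n + 1) => Coh.structureModule X) (i : Fin n).succ) W (oneS W) -
      secL (Limits.Sigma.ι (fun _ : Fin (n + 1) => Coh.structureModule X) 0) W (oneS W)) = _
    rw [← hb0, ← hb0, map_sub]
    funext j
    simp [cmat, Pi.single_apply, Finsupp.single_apply, eq_comm]

section Same

variable {n : ℕ} (I : X.IdealSheafData)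
  (C : KoszSh.Cx (sumE fun _ : Fin n => I) (Limits.Sigma.desc fun _ : Fin n => ClSub.idealModι I))

/-- The inclusion of the copies of `I` into the free module. -/
def toFree : (sumE fun _ : Fin n => I) ⟶ free X n := Limits.Sigma.map fun _ => ClSub.idealModι I

theorem exists_frame {W : X.affineOpens} {y : Γ(X, W.1)} (hy : y ∈ nonZeroDivisors Γ(X, W.1))
    (hI : I.ideal W = Ideal.span {y}) (b0 : Module.Basis (Fin n) Γ(X, W.1) Γ(free X n, W.1))
    (hb0 : ∀ i, b0 i = secL (Limits.Sigma.ι (fun _ : Fin n => Coh.structureModule X) i) W.1 (oneS W.1)) :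
    ∃ b : Module.Basis (Fin n) Γ(X, W.1) Γ(sumE (fun _ : Fin n => I), W.1),
      (∀ i, secL (toFree I) W.1 (b i) = y • b0 i) ∧
        ∀ i, KoszSh.secForm (Limits.Sigma.desc fun _ : Fin n => ClSub.idealModι I) W.1 (b i) = y := by
  obtain ⟨e, he, hey⟩ := exists_gen_ideal W.2 hy hI
  obtain ⟨b, hb⟩ := exists_basis_sigma (fun _ : Fin n => ClSub.idealMod I) (fun _ => e) (fun _ => he)
  refine ⟨b, fun i => ?_, fun i => ?_⟩
  · rw [hb, hb0, ← map_smul, secL_comp, secL_congr (show Limits.Sigma.ι (fun _ : Fin n => ClSub.idealMod I) i ≫ toFree I =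
      ClSub.idealModι I ≫ Limits.Sigma.ι (fun _ : Fin n => Coh.structureModule X) i by simp [toFree]) W.1,
      ← secL_comp]
    refine congrArg _ ?_
    show _ = (show Γ(Coh.structureModule X, W.1) from (y * 1 : Γ(X, W.1)))
    rw [mul_one]
    exact hey
  · rw [hb]
    exact (congrArg (fun φ : ClSub.idealMod I ⟶ Coh.structureModule X => OmegaSh.fnSect X W.1 (φ.app W.1 e))
      (Limits.Sigma.ι_desc (fun _ : Fin n => ClSub.idealModι I) i)).trans hey

theorem coord_d {W : X.affineOpens} (b : Module.Basis (Fin n) Γ(X, W.1) Γ(sumE (fun _ : Fin n => I), W.1)) {y : Γ(X, W.1)}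
    (hb : ∀ i, KoszSh.secForm (Limits.Sigma.desc fun _ : Fin n => ClSub.idealModι I) W.1 (b i) = y)
    (k : ℕ) (z : Γ(C.K.X (k + 1), W.1)) :
    coord (cxData C k) W b (secL (C.K.d (k + 1) k) W.1 z) = d n (fun _ => y) k (coord (cxData C (k + 1)) W b z) := by
  obtain ⟨u, rfl⟩ := (C.loc (k + 1) W).symm.surjective z
  refine LinearMap.congr_fun (f := (coord (cxData C k) W b).comp ((secL (C.K.d (k + 1) k) W.1).comp
    (C.loc (k + 1) W).symm.toLinearMap)) (g := (d n (fun _ => y) k).comp ((coord (cxData C (k + 1)) W b).comp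
    (C.loc (k + 1) W).symm.toLinearMap)) ?_ u
  refine exteriorPower.linearMap_ext (AlternatingMap.ext fun e => ?_)
  show KoszShX.cmp b k (C.loc k W ((C.K.d (k + 1) k).app W.1 _)) =
    d n _ k (KoszShX.cmp b (k + 1) (C.loc (k + 1) W _))
  refine (congrArg (fun t => KoszShX.cmp b k (C.loc k W t)) (C.rule k W e)).trans ?_
  rw [LinearEquiv.apply_symm_apply, KoszShX.cmp_dGen]
  simp only [hb]
  exact congrArg (fun t => d n _ k (KoszShX.cmp b (k + 1) t)) (LinearEquiv.apply_symm_apply _ _).symm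

theorem mem_cycles_iff {W : X.affineOpens} [Nonempty W.1]
    (b : Module.Basis (Fin n) Γ(X, W.1) Γ(sumE (fun _ : Fin n => I), W.1)) {y : Γ(X, W.1)}
    (hy : y ∈ nonZeroDivisors Γ(X, W.1))
    (hb : ∀ i, KoszSh.secForm (Limits.Sigma.desc fun _ : Fin n => ClSub.idealModι I) W.1 (b i) = y)
    (q : ℕ) (z : Γ(C.K.X q, W.1)) :
    (∃ c, secL (C.K.iCycles q) W.1 c = z) ↔ cyc n (fun _ => (1 : Γ(X, W.1))) q (coord (cxData C q) W b z) := by
  rw [← cyc_smul_iff hy]
  cases q with
  | zero =>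
    refine ⟨fun _ => trivial, fun _ => exists_cycle C.K 0 z ?_⟩
    rw [secL_congr (C.K.shape 0 (below 0) (by simp [below])) W.1]
    rfl
  | succ k =>
    constructor
    · rintro ⟨c, rfl⟩
      show d n _ k _ = 0
      rw [← coord_d I C b hb, secL_comp, secL_congr (C.K.iCycles_d (k + 1) k) W.1 c]
      exact map_zero _
    · intro h
      refine exists_cycle C.K (k + 1) z ?_
      rw [show below (k + 1) = k from ChainComplex.next_nat_succ k]
      apply (coord_bijective (cxData C k) W b).1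
      rw [map_zero, coord_d I C b hb]
      exact h

theorem free_qcoh (X : Scheme.{u}) (n : ℕ) : Coh.IsQCoh (free X n) ∧ FlatMod.IsFinLocFree (free X n) :=
  have h : FlatMod.IsFinLocFree (free X n) := (ConsPropLib.isFinLocFree_iso (biproduct.isoCoproduct _)).1
    (AmpleFamGen.isFinLocFree_biproduct _ fun _ => InvX.isInvertible_structureModule)
  ⟨QCoh.isQCoh_of_isFinLocFree h, h⟩

theorem mono_mulMap {D : X.IdealSheafData} (hD : BlowUp.IsEffCartierIdeal D) (q : ℕ) {L : X.Modules}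
    (hq : Coh.IsQCoh L) (hL : ∀ (U : X.Opens) (_ : IsAffineOpen U) (x : Γ(X, U)),
      x ∈ nonZeroDivisors Γ(X, U) → ∀ t : Γ(L, U), x • t = 0 → t = 0) : Mono (mulMap D q L) := by
  refine QCoh.mono_of_isBasis _ (isBasis_good hD) fun U ⟨hA, x, hx, hxD⟩ => ?_
  obtain ⟨e, he, hex⟩ := exists_gen_pow hA hx hxD q
  show Function.Injective (secL (mulMap D q L) U)
  intro a c hac
  obtain ⟨a, rfl⟩ := (bijective_tmul_gen hq (isQCoh_pow D q) hA he).2 a
  obtain ⟨c, rfl⟩ := (bijective_tmul_gen hq (isQCoh_pow D q) hA he).2 c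
  have h : x ^ q • a = x ^ q • c :=
    ((mulMap_tmul D q L U a e).trans (congrArg (fun r : Γ(X, U) => r • a) hex)).symm.trans
      (hac.trans ((mulMap_tmul D q L U c e).trans (congrArg (fun r : Γ(X, U) => r • c) hex)))
  exact congrArg (fun t => InvX.tmul t e)
    (sub_eq_zero.1 (hL U hA _ (pow_mem hx q) _ (by rw [smul_sub, h, sub_self])))

/-- The cycles are a twist of an exterior power of `O^{n-1}`. -/
theorem nonempty_cycles_iso (hI : BlowUp.IsEffCartierIdeal I) (q : ℕ) (L : X.Modules)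
    (hL : ExtPow.IsExtPow q (free X (n - 1)) L) :
    Nonempty (C.K.cycles q ≅ CohB1.tensorMod L (CohB1.tensorPow (ClSub.idealMod I) q)) := by
  obtain ⟨aL⟩ := nonempty_locData hL
  obtain ⟨hqn, hfn⟩ := free_qcoh X n
  let P := ExtPowSh.L (free X n) q
  obtain ⟨aP⟩ := nonempty_locData (ExtPowSh.isExtPow (free X n) q hqn)
  obtain ⟨η, hη⟩ := exists_extMap (toFree I) (cxData C q) aP
  obtain ⟨lam, hlam⟩ := exists_extMap (jMap0 (X := X) n) aL aP
  have hLf : FlatMod.IsFinLocFree L := ExtPowSh.isFinLocFree_of_isExtPow (free_qcoh X (n - 1)).2 hL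
  have hPf : FlatMod.IsFinLocFree P := ExtPowSh.isFinLocFree hfn
  have hLq : Coh.IsQCoh L := QCoh.isQCoh_of_isFinLocFree hLf
  have hB := isBasis_good hI
  have key : ∀ U ∈ Good I, IsEmpty U ∨ ∃ (hA : IsAffineOpen U) (_ : Nonempty U) (y : Γ(X, U))
      (b : Module.Basis (Fin n) Γ(X, U) Γ(sumE (fun _ : Fin n => I), U))
      (b0 : Module.Basis (Fin n) Γ(X, U) Γ(free X n, U))
      (b1 : Module.Basis (Fin (n - 1)) Γ(X, U) Γ(free X (n - 1), U)),
      y ∈ nonZeroDivisors Γ(X, U) ∧ I.ideal ⟨U, hA⟩ = Ideal.span {y} ∧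
      (∀ i, KoszSh.secForm (Limits.Sigma.desc fun _ : Fin n => ClSub.idealModι I) U (b i) = y) ∧
      (∀ z, coord aP ⟨U, hA⟩ b0 (secL η U z) = y ^ q • coord (cxData C q) ⟨U, hA⟩ b z) ∧
      ∀ t, coord aP ⟨U, hA⟩ b0 (secL lam U t) =
        WiebeLib.U (n - 1) (cmat Γ(X, U) n) q (coord aL ⟨U, hA⟩ b1 t) := by
    rintro U ⟨hA, y, hy, hyI⟩
    rcases isEmpty_or_nonempty U with h | h
    · exact Or.inl h
    refine Or.inr ⟨hA, h, y, ?_⟩
    obtain ⟨b0, hb0⟩ := exists_basis_free (X := X) n U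
    obtain ⟨b1, hb1⟩ := exists_basis_free (X := X) (n - 1) U
    obtain ⟨b, hb, hby⟩ := exists_frame I (W := ⟨U, hA⟩) hy hyI b0 hb0
    exact ⟨b, b0, b1, hy, hyI, hby, fun z => coord_scale hη ⟨U, hA⟩ b b0 y hb z,
      fun t => coord_map hlam ⟨U, hA⟩ b1 b0 _ (secL_jMap0 n b1 hb1 b0 hb0) t⟩
  have hsub : ∀ (M : X.Modules) (U : X.Opens), IsEmpty U → Subsingleton Γ(M, U) := fun M U hU =>
    ⟨fun a b => sub_eq_zero.1 (QCoh.eq_zero_of_locally (M := M) U _ fun p hp => (hU.false ⟨p, hp⟩).elim)⟩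
  let a : C.K.cycles q ⟶ P := C.K.iCycles q ≫ η
  let μ : CohB1.tensorMod L (CohB1.tensorPow (ClSub.idealMod I) q) ⟶ P := mulMap I q L ≫ lam
  haveI : Mono η := QCoh.mono_of_isBasis _ hB fun U hU => by
    rcases key U hU with h | ⟨hA, hne, y, b, b0, b1, hy, -, -, he, -⟩
    · haveI := hsub (C.K.X q) U h
      exact Function.injective_of_subsingleton _
    · haveI : Nonempty (⟨U, hA⟩ : X.affineOpens).1 := hne
      intro z z' hzz
      apply (coord_bijective (cxData C q) ⟨U, hA⟩ b).1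
      have h := congrArg (coord aP ⟨U, hA⟩ b0) (show secL η U z = secL η U z' from hzz)
      rw [he, he] at h
      funext i
      exact (mul_cancel_left_mem_nonZeroDivisors (pow_mem hy q)).1 (congrFun h i)
  haveI : Mono lam := QCoh.mono_of_isBasis _ hB fun U hU => by
    rcases key U hU with h | ⟨hA, hne, y, b, b0, b1, hy, -, -, -, he⟩
    · haveI := hsub L U h
      exact Function.injective_of_subsingleton _
    · haveI : Nonempty (⟨U, hA⟩ : X.affineOpens).1 := hne
      intro z z' hzz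
      apply (coord_bijective aL ⟨U, hA⟩ b1).1
      refine U_cmat_injective n q ?_
      rw [← he, ← he]
      exact congrArg _ (show secL lam U z = secL lam U z' from hzz)
  haveI : Mono (mulMap I q L) :=
    mono_mulMap hI q hLq fun U hA x hx t ht => eq_zero_of_smul hLf hA hx t ht
  obtain ⟨e, -⟩ := exists_iso_of_range_eq a μ hB fun U hU z => by
    rcases key U hU with h | ⟨hA, hne, y, b, b0, b1, hy, hyI, hby, heta, hlm⟩
    · haveI := hsub P U h
      exact ⟨fun _ => ⟨0, Subsingleton.elim (α := Γ(P, U)) _ _⟩, fun _ => ⟨0, Subsingleton.elim (α := Γ(P, U)) _ _⟩⟩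
    haveI : Nonempty (⟨U, hA⟩ : X.affineOpens).1 := hne
    obtain ⟨ee, hee, heey⟩ := exists_gen_pow hA hy hyI q
    have hμ : ∀ t : Γ(L, U), secL μ U (InvX.tmul t ee) = y ^ q • secL lam U t := by
      intro t
      show secL lam U (secL (mulMap I q L) U (InvX.tmul t ee)) = _
      rw [← map_smul]
      exact congrArg _ ((mulMap_tmul I q L U t ee).trans (congrArg (fun r : Γ(X, U) => r • t) heey))
    constructor
    · rintro ⟨c, rfl⟩
      obtain ⟨u, hu⟩ := (cyc_one_iff n q _).1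
        ((mem_cycles_iff I C (W := ⟨U, hA⟩) b hy hby q _).1 ⟨c, rfl⟩)
      obtain ⟨t, rfl⟩ := (coord_bijective aL ⟨U, hA⟩ b1).2 u
      refine ⟨InvX.tmul t ee, ?_⟩
      show secL μ U (InvX.tmul t ee) = secL η U (secL (C.K.iCycles q) U c)
      apply (coord_bijective aP ⟨U, hA⟩ b0).1
      rw [hμ, map_smul, hlm, heta, hu]
    · rintro ⟨w, rfl⟩
      obtain ⟨t, rfl⟩ := (bijective_tmul_gen hLq (isQCoh_pow I q) hA hee).2 w
      obtain ⟨zz, hzz⟩ := (coord_bijective (cxData C q) ⟨U, hA⟩ b).2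
        (WiebeLib.U (n - 1) (cmat Γ(X, U) n) q (coord aL ⟨U, hA⟩ b1 t))
      obtain ⟨c, hc⟩ := (mem_cycles_iff I C (W := ⟨U, hA⟩) b hy hby q zz).2 ((cyc_one_iff n q _).2 ⟨_, hzz.symm⟩)
      refine ⟨c, ?_⟩
      show secL η U (secL (C.K.iCycles q) U c) = secL μ U (InvX.tmul t ee)
      apply (coord_bijective aP ⟨U, hA⟩ b0).1
      rw [hμ, map_smul, hlm, hc, heta, hzz]
  exact ⟨e⟩

/-- The homology is the restriction of the cycles to the divisor. -/
theorem homology_ker (hn : 1 ≤ n) (hI : BlowUp.IsEffCartierIdeal I) (q : ℕ) {U : X.Opens} (hU : U ∈ Good I)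
    (c : Γ(C.K.cycles q, U)) :
    secL (C.K.homologyπ q) U c = 0 ↔
      ((Scheme.Modules.pullbackPushforwardAdjunction I.subschemeι).unit.app (C.K.cycles q)).app U c = 0 := by
  have hC : ∀ p, Coh.IsQCoh (C.K.X p) := fun p =>
    QCoh.isQCoh_of_isFinLocFree (isFinLocFree_term (IY := fun _ : Fin n => I) (fun _ => hI) C p)
  obtain ⟨hA, y, hy, hyI⟩ := hU
  rw [homologyπ_eq_zero C.K hC q hA, (unit_sections hA hyI (isQCoh_cycles C.K hC q)).2 c]
  rcases isEmpty_or_nonempty U with h | h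
  · have hs : ∀ (M : X.Modules) (a b : Γ(M, U)), a = b := fun M a b =>
      sub_eq_zero.1 (QCoh.eq_zero_of_locally (M := M) U _ fun p hp => (h.false ⟨p, hp⟩).elim)
    exact ⟨fun _ => ⟨0, hs _ _ _⟩, fun _ => ⟨0, hs _ _ _⟩⟩
  haveI : Nonempty (⟨U, hA⟩ : X.affineOpens).1 := h
  obtain ⟨b0, hb0⟩ := exists_basis_free (X := X) n U
  obtain ⟨b, -, hby⟩ := exists_frame I (W := ⟨U, hA⟩) hy hyI b0 hb0
  let T := fun k => coord (cxData C k) ⟨U, hA⟩ b
  have hdy : ∀ v : Ko Γ(X, U) n (q + 1), d n (fun _ => y) q v = y • d n (fun _ => (1 : Γ(X, U))) q v := fun v => by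
    rw [← d_smul_seq]
    simp only [mul_one]
  constructor
  · rintro ⟨v, rfl⟩
    obtain ⟨zz, hzz⟩ := (coord_bijective (cxData C q) ⟨U, hA⟩ b).2 (d n (fun _ => (1 : Γ(X, U))) q (T (q + 1) v))
    obtain ⟨c', hc'⟩ := (mem_cycles_iff I C (W := ⟨U, hA⟩) b hy hby q zz).2
      ((cyc_one_range hn _).2 ⟨_, hzz.symm⟩)
    refine ⟨c', secL_injective (C.K.iCycles q) U ((coord_bijective (cxData C q) ⟨U, hA⟩ b).1 ?_)⟩
    rw [map_smul, map_smul, hc', hzz, secL_comp, secL_congr (C.K.toCycles_i (q + 1) q) U v]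
    exact (hdy _).symm.trans (coord_d I C (W := ⟨U, hA⟩) b hby q v).symm
  · rintro ⟨c', rfl⟩
    obtain ⟨v, hv⟩ := (cyc_one_range hn _).1
      ((mem_cycles_iff I C (W := ⟨U, hA⟩) b hy hby q _).1 ⟨c', rfl⟩)
    obtain ⟨v', rfl⟩ := (coord_bijective (cxData C (q + 1)) ⟨U, hA⟩ b).2 v
    refine ⟨v', secL_injective (C.K.iCycles q) U ((coord_bijective (cxData C q) ⟨U, hA⟩ b).1 ?_)⟩
    rw [map_smul, map_smul, ← hv, secL_comp, secL_congr (C.K.toCycles_i (q + 1) q) U v']
    exact (coord_d I C (W := ⟨U, hA⟩) b hby q v').trans (hdy _)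

end Same

end Groth.Agent.KoszDiv
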