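import Groth.Agent.KoszDiv.Same

/-!
# The homology of copies of a divisor, twisted
-/

set_option linter.style.haveILetI false
set_option linter.unusedSectionVars false
set_option backward.isDefEq.respectTransparency false
set_option backward.isDefEq.respectTransparency.types false
set_option maxHeartbeats 800000
set_option autoImplicit false

universe u

open CategoryTheory CategoryTheory.Limits AlgebraicGeometry TopologicalSpace Opposite

noncomputable section

namespace Groth.Agent.KoszDiv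

variable {X : Scheme.{u}}

/-- The restriction to the closed subscheme. -/
abbrev resD (D : X.IdealSheafData) : X.Modules ⥤ X.Modules :=
  Scheme.Modules.pullback D.subschemeι ⋙ Scheme.Modules.pushforward D.subschemeι

/-- The restriction map. -/
def toResD (D : X.IdealSheafData) (M : X.Modules) : M ⟶ (resD D).obj M :=
  (Scheme.Modules.pullbackPushforwardAdjunction D.subschemeι).unit.app M

theorem toResD_sections {D : X.IdealSheafData} {M : X.Modules} (hM : Coh.IsQCoh M) {U : X.Opens}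
    (hU : IsAffineOpen U) {x : Γ(X, U)} (hD : D.ideal ⟨U, hU⟩ = Ideal.span {x}) :
    Function.Surjective (secL (toResD D M) U) ∧
      ∀ s : Γ(M, U), secL (toResD D M) U s = 0 ↔ ∃ t, x • t = s :=
  unit_sections hU hD hM

theorem epi_toResD {D : X.IdealSheafData} (hD : BlowUp.IsEffCartierIdeal D) {M : X.Modules} (hM : Coh.IsQCoh M) :
    Epi (toResD D M) := by
  refine RelTildeX.epi_of_locally _ fun V s p hp => ?_
  obtain ⟨U, hU, hpU, hUV⟩ := Opens.isBasis_iff_nbhd.1 (isBasis_good hD) hp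
  obtain ⟨hA, x, hx, hxD⟩ := hU
  exact ⟨U, hUV, hpU, (toResD_sections hM hA hxD).1 _⟩

theorem isQCoh_resD (D : X.IdealSheafData) {M : X.Modules} (hM : Coh.IsQCoh M) : Coh.IsQCoh ((resD D).obj M) :=
  QCoh.isQCoh_pushforward D.subschemeι (QCoh.isQCoh_pullback D.subschemeι hM)

theorem isBasis_good₂ {I D : X.IdealSheafData} (hI : BlowUp.IsEffCartierIdeal I) (hD : BlowUp.IsEffCartierIdeal D) :
    Opens.IsBasis {U | U ∈ Good I ∧ U ∈ Good D} := by
  rw [Opens.isBasis_iff_nbhd]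
  intro V p hp
  obtain ⟨U, hU, hpU, hUV⟩ := Opens.isBasis_iff_nbhd.1 (isBasis_good hI) hp
  obtain ⟨hA, y, hy, hyI⟩ := hU
  obtain ⟨g, hpg, hg⟩ := exists_chart (fun _ : Fin 1 => D) (fun _ => hD) ⟨U, hA⟩ hpU
  obtain ⟨x, hx, hxD⟩ := hg 0
  exact ⟨X.basicOpen g, ⟨basicOpen_mem_good hA g hy hyI, hA.basicOpen g, x, hx, hxD⟩, hpg,
    (X.basicOpen_le g).trans hUV⟩

theorem secL_tensorMap_id {M R N : X.Modules} (r : M ⟶ R) (U : X.Opens) (c : Γ(M, U)) (e : Γ(N, U)) :
    secL (KoszTw.tensorMap r (𝟙 N)) U (InvX.tmul c e) = InvX.tmul (secL r U c) e :=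
  KoszTw.tensorMap_tmul r (𝟙 N) U c e

theorem nonempty_iso_tensor_of_ker {M R N T : X.Modules} (hM : Coh.IsQCoh M) (hR : Coh.IsQCoh R)
    (hN : Coh.IsQCoh N) (r : M ⟶ R) (r' : CohB1.tensorMod M N ⟶ T) [Epi r'] {B : Set X.Opens}
    (hB : Opens.IsBasis B)
    (h : ∀ U ∈ B, ∃ (_ : IsAffineOpen U) (x : Γ(X, U)) (e : Γ(N, U)), IsGen e ∧
      (Function.Surjective (secL r U) ∧ ∀ s, secL r U s = 0 ↔ ∃ t, x • t = s) ∧
      ∀ s, secL r' U s = 0 ↔ ∃ t, x • t = s) :
    Nonempty (T ≅ CohB1.tensorMod R N) := by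
  let b : CohB1.tensorMod M N ⟶ CohB1.tensorMod R N := KoszTw.tensorMap r (𝟙 N)
  have hb : ∀ (U : X.Opens) (c : Γ(M, U)) (e : Γ(N, U)),
      secL b U (InvX.tmul c e) = InvX.tmul (secL r U c) e := secL_tensorMap_id r
  haveI : Epi b := by
    refine RelTildeX.epi_of_locally b fun V s p hp => ?_
    obtain ⟨U, hU, hpU, hUV⟩ := Opens.isBasis_iff_nbhd.1 hB hp
    obtain ⟨hA, x, e, he, ⟨hs, -⟩, -⟩ := h U hU
    refine ⟨U, hUV, hpU, ?_⟩
    obtain ⟨t, ht⟩ := (bijective_tmul_gen hR hN hA he).2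
      ((CohB1.tensorMod R N).presheaf.map (homOfLE hUV).op s)
    obtain ⟨c, rfl⟩ := hs t
    exact ⟨InvX.tmul c e, (hb U c e).trans ht⟩
  refine nonempty_iso_of_ker_eq r' b hB fun U hU w => ?_
  obtain ⟨hA, x, e, he, ⟨-, hk⟩, hk'⟩ := h U hU
  obtain ⟨c, rfl⟩ := (bijective_tmul_gen hM hN hA he).2 w
  show secL r' U (InvX.tmul c e) = 0 ↔ secL b U (InvX.tmul c e) = 0
  have hzero : InvX.tmul (0 : Γ(R, U)) e = 0 := by
    rw [← zero_smul Γ(X, U) (0 : Γ(R, U)), InvX.tmul_smul_left, zero_smul]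
  rw [hb, hk']
  constructor
  · rintro ⟨t, ht⟩
    obtain ⟨t, rfl⟩ := (bijective_tmul_gen hM hN hA he).2 t
    have hc : x • t = c := (bijective_tmul_gen hM hN hA he).1 ((InvX.tmul_smul_left x t e).trans ht)
    rw [(hk c).2 ⟨t, hc⟩]
    exact hzero
  · intro h0
    obtain ⟨t, rfl⟩ := (hk c).1 ((bijective_tmul_gen hR hN hA he).1 (h0.trans hzero.symm))
    exact ⟨InvX.tmul t e, (InvX.tmul_smul_left x t e).symm⟩

/-- Restriction to a divisor commutes with twisting by powers of a Cartier ideal. -/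
theorem nonempty_resD_tensor {I D : X.IdealSheafData} (hI : BlowUp.IsEffCartierIdeal I)
    (hD : BlowUp.IsEffCartierIdeal D) (q : ℕ) {M : X.Modules} (hM : Coh.IsQCoh M) :
    Nonempty ((resD D).obj (CohB1.tensorMod M (CohB1.tensorPow (ClSub.idealMod I) q)) ≅
      CohB1.tensorMod ((resD D).obj M) (CohB1.tensorPow (ClSub.idealMod I) q)) := by
  have hN := isQCoh_pow I q
  generalize hNdef : CohB1.tensorPow (ClSub.idealMod I) q = N at hN ⊢
  have hW : Coh.IsQCoh (CohB1.tensorMod M N) := CohBasic.isQCoh_tensorMod hM hN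
  haveI := epi_toResD hD hW
  refine nonempty_iso_tensor_of_ker hM (isQCoh_resD D hM) hN (toResD D M) (toResD D (CohB1.tensorMod M N))
    (isBasis_good₂ hI hD) fun U hU => ?_
  obtain ⟨⟨hA, y, hy, hyI⟩, hA', x, hx, hxD⟩ := hU
  obtain ⟨e, he⟩ : ∃ e : Γ(N, U), IsGen e := by
    subst hNdef
    obtain ⟨e, he, -⟩ := exists_gen_pow hA hy hyI q
    exact ⟨e, he⟩
  exact ⟨hA, x, e, he, toResD_sections hM hA hxD, (toResD_sections hW hA hxD).2⟩

/-- The two orders of twisting agree. -/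
theorem nonempty_swap {I D : X.IdealSheafData} (hI : BlowUp.IsEffCartierIdeal I) (hD : BlowUp.IsEffCartierIdeal D)
    (q : ℕ) {L : X.Modules} (hL : FlatMod.IsFinLocFree L) :
    Nonempty (CohB1.tensorMod (CohB1.tensorMod L (CohB1.tensorPow (ClSub.idealMod I) q))
        (CohB1.tensorPow (ClSub.idealMod D) q) ≅
      CohB1.tensorMod (CohB1.tensorMod L (CohB1.tensorPow (ClSub.idealMod D) q))
        (CohB1.tensorPow (ClSub.idealMod I) q)) := by
  have hLq : Coh.IsQCoh L := QCoh.isQCoh_of_isFinLocFree hL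
  have htfL : ∀ (U : X.Opens) (_ : IsAffineOpen U) (x : Γ(X, U)),
      x ∈ nonZeroDivisors Γ(X, U) → ∀ t : Γ(L, U), x • t = 0 → t = 0 := fun U hA x hx t ht =>
    eq_zero_of_smul hL hA hx t ht
  have htf : ∀ (I : X.IdealSheafData), BlowUp.IsEffCartierIdeal I → ∀ (U : X.Opens) (_ : IsAffineOpen U)
      (x : Γ(X, U)), x ∈ nonZeroDivisors Γ(X, U) →
        ∀ t : Γ(CohB1.tensorMod L (CohB1.tensorPow (ClSub.idealMod I) q), U), x • t = 0 → t = 0 := by
    intro I hI U hA x hx t ht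
    haveI := mono_mulMap hI q hLq htfL
    refine secL_injective (mulMap I q L) U ((htfL U hA x hx _ ?_).trans (map_zero _).symm)
    rw [← map_smul, ht, map_zero]
  have hqI := CohBasic.isQCoh_tensorMod hLq (isQCoh_pow I q)
  have hqD := CohBasic.isQCoh_tensorMod hLq (isQCoh_pow D q)
  haveI := mono_mulMap hI q hLq htfL
  haveI := mono_mulMap hD q hLq htfL
  haveI := mono_mulMap hD q hqI (htf I hI)
  haveI := mono_mulMap hI q hqD (htf D hD)
  let a := mulMap D q (CohB1.tensorMod L (CohB1.tensorPow (ClSub.idealMod I) q)) ≫ mulMap I q L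
  let b := mulMap I q (CohB1.tensorMod L (CohB1.tensorPow (ClSub.idealMod D) q)) ≫ mulMap D q L
  have hB := isBasis_good₂ hI hD
  obtain ⟨e, -⟩ := exists_iso_of_range_eq a b hB fun U ⟨⟨hA, y, hy, hyI⟩, hA', x, hx, hxD⟩ z => by
    obtain ⟨eI, heI, heIy⟩ := exists_gen_pow hA hy hyI q
    obtain ⟨eD, heD, heDx⟩ := exists_gen_pow hA hx hxD q
    have hmul : ∀ (J : X.IdealSheafData) (M : X.Modules) (r : Γ(X, U)) (e : Γ(CohB1.tensorPow (ClSub.idealMod J) q, U))
        (_ : fn (ExtPowSh.appL (powι J q) U e) = r) (t : Γ(M, U)),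
        secL (mulMap J q M) U (InvX.tmul t e) = r • t := fun J M r e he t =>
      (mulMap_tmul J q M U t e).trans (congrArg (fun r : Γ(X, U) => r • t) he)
    have ha : ∀ t : Γ(L, U), secL a U (InvX.tmul (InvX.tmul t eI) eD) = (x ^ q * y ^ q) • t := fun t => by
      show secL (mulMap I q L) U (secL (mulMap D q _) U _) = _
      rw [hmul D _ _ eD heDx, map_smul, hmul I _ _ eI heIy, mul_smul]
    have hb : ∀ t : Γ(L, U), secL b U (InvX.tmul (InvX.tmul t eD) eI) = (x ^ q * y ^ q) • t := fun t => by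
      show secL (mulMap D q L) U (secL (mulMap I q _) U _) = _
      rw [hmul I _ _ eI heIy, map_smul, hmul D _ _ eD heDx, mul_comm, mul_smul]
    have hsa : ∀ w, ∃ t : Γ(L, U), InvX.tmul (InvX.tmul t eI) eD = w := fun w => by
      obtain ⟨u, rfl⟩ := (bijective_tmul_gen hqI (isQCoh_pow D q) hA heD).2 w
      obtain ⟨t, rfl⟩ := (bijective_tmul_gen hLq (isQCoh_pow I q) hA heI).2 u
      exact ⟨t, rfl⟩
    have hsb : ∀ w, ∃ t : Γ(L, U), InvX.tmul (InvX.tmul t eD) eI = w := fun w => by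
      obtain ⟨u, rfl⟩ := (bijective_tmul_gen hqD (isQCoh_pow I q) hA heI).2 w
      obtain ⟨t, rfl⟩ := (bijective_tmul_gen hLq (isQCoh_pow D q) hA heD).2 u
      exact ⟨t, rfl⟩
    constructor
    · rintro ⟨w, rfl⟩
      obtain ⟨t, rfl⟩ := hsa w
      exact ⟨InvX.tmul (InvX.tmul t eD) eI, (hb t).trans (ha t).symm⟩
    · rintro ⟨w, rfl⟩
      obtain ⟨t, rfl⟩ := hsb w
      exact ⟨InvX.tmul (InvX.tmul t eI) eD, (ha t).trans (hb t).symm⟩
  exact ⟨e⟩

theorem nonempty_tens_iso {A B : X.Modules} (N : X.Modules) (e : A ≅ B) :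
    Nonempty (CohB1.tensorMod A N ≅ CohB1.tensorMod B N) := ⟨(DCoh.tensorRightMod N).mapIso e⟩

theorem nonempty_resD_iso (D : X.IdealSheafData) {A B : X.Modules} (e : A ≅ B) :
    Nonempty ((resD D).obj A ≅ (resD D).obj B) := ⟨(resD D).mapIso e⟩

theorem nonempty_resD_comp (D : X.IdealSheafData) {A B C Q Z R N : X.Modules} (e1 : A ≅ B) (e2 : B ≅ C)
    (t : (resD D).obj C ≅ CohB1.tensorMod ((resD D).obj Q) N) (e3 : Z ≅ Q) (h : R ≅ (resD D).obj Z) :
    Nonempty ((resD D).obj A ≅ CohB1.tensorMod R N) := by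
  obtain ⟨a⟩ := nonempty_resD_iso D (e1 ≪≫ e2)
  obtain ⟨b⟩ := nonempty_resD_iso D e3.symm
  obtain ⟨c⟩ := nonempty_tens_iso N (b ≪≫ h.symm)
  exact ⟨a ≪≫ t ≪≫ c⟩

theorem nonempty_homology_twist {n : ℕ} (hn : 1 ≤ n) (I : X.IdealSheafData) (hI : BlowUp.IsEffCartierIdeal I)
    (D : X.IdealSheafData) (hD : BlowUp.IsEffCartierIdeal D)
    (C : KoszSh.Cx (sumE fun _ : Fin n => I) (Limits.Sigma.desc fun _ : Fin n => ClSub.idealModι I))
    (CD : KoszSh.Cx (sumE fun _ : Fin n => D) (Limits.Sigma.desc fun _ : Fin n => ClSub.idealModι D))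
    (q : ℕ) (L : X.Modules) (hL : ExtPow.IsExtPow q (free X (n - 1)) L) :
    Nonempty ((resD D).obj (CohB1.tensorMod (C.K.cycles q) (CohB1.tensorPow (ClSub.idealMod D) q)) ≅
      CohB1.tensorMod (CD.K.homology q) (CohB1.tensorPow (ClSub.idealMod I) q)) := by
  have hLf : FlatMod.IsFinLocFree L := ExtPowSh.isFinLocFree_of_isExtPow (free_qcoh X (n - 1)).2 hL
  have hLD : Coh.IsQCoh (CohB1.tensorMod L (CohB1.tensorPow (ClSub.idealMod D) q)) :=
    CohBasic.isQCoh_tensorMod (QCoh.isQCoh_of_isFinLocFree hLf) (isQCoh_pow D q)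
  obtain ⟨eC⟩ := nonempty_cycles_iso I C hI q L hL
  obtain ⟨eD⟩ := nonempty_cycles_iso D CD hD q L hL
  obtain ⟨sw⟩ := nonempty_swap hI hD q hLf
  obtain ⟨t⟩ := nonempty_resD_tensor hI hD q hLD
  have hqZ : Coh.IsQCoh (CD.K.cycles q) := (QCoh.isQCoh_iff_iso eD).2 hLD
  haveI := epi_toResD hD hqZ
  obtain ⟨h⟩ := nonempty_iso_of_ker_eq (CD.K.homologyπ q) (toResD D (CD.K.cycles q)) (isBasis_good hD)
    fun U hU c => homology_ker D CD hn hD q hU c
  obtain ⟨eC'⟩ := nonempty_tens_iso (CohB1.tensorPow (ClSub.idealMod D) q) eC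
  exact nonempty_resD_comp D eC' sw t eD h

end Groth.Agent.KoszDiv
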