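import Groth.Agent.ExtPowSh.Functor
import Groth.Agent.QCoh.ClosedPush
import Groth.Agent.Lib.TopDiff
import Groth.Agent.OmegaLib.IdealMod
import Groth.Agent.InvX.Tensor
import Groth.Agent.QCoh.TensorSections
import Groth.Agent.H23.TensorDesc
import Groth.Agent.CohBasic.EulerBC
import Groth.Agent.PPSheaf.GrCoh
import Groth.Prelude.Def_KoszTw
import Groth.Prelude.Def_BlowUp2

/-!
# Sections over affine opens on which a Cartier ideal is principal
-/

set_option linter.style.haveILetI false
set_option linter.unusedSectionVars false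
set_option backward.isDefEq.respectTransparency false
set_option backward.isDefEq.respectTransparency.types false
set_option maxHeartbeats 800000
set_option autoImplicit false

universe u

open CategoryTheory CategoryTheory.Limits AlgebraicGeometry TopologicalSpace Opposite

noncomputable section

namespace Groth.Agent.KoszDiv

open ExtPowSh (appL map_appL resL)

variable {X : Scheme.{u}}

/-- Affine opens on which the ideal is generated by a non-zero-divisor. -/
def Good (D : X.IdealSheafData) : Set X.Opens :=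
  {U | ∃ (hU : IsAffineOpen U) (x : Γ(X, U)), x ∈ nonZeroDivisors Γ(X, U) ∧ D.ideal ⟨U, hU⟩ = Ideal.span {x}}

theorem res_mem_nonZeroDivisors {U : X.Opens} (hU : IsAffineOpen U) (g : Γ(X, U)) {x : Γ(X, U)}
    (hx : x ∈ nonZeroDivisors Γ(X, U)) :
    (X.presheaf.map (homOfLE (X.basicOpen_le g)).op).hom x ∈ nonZeroDivisors Γ(X, X.basicOpen g) := by
  letI := (X.presheaf.map (homOfLE (X.basicOpen_le g)).op).hom.toAlgebra
  haveI : IsLocalization.Away g Γ(X, X.basicOpen g) := hU.isLocalization_basicOpen g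
  exact IsLocalization.map_nonZeroDivisors_le (Submonoid.powers g) Γ(X, X.basicOpen g) ⟨x, hx, rfl⟩

theorem basicOpen_mem_good {D : X.IdealSheafData} {U : X.Opens} (hU : IsAffineOpen U) (g : Γ(X, U)) {x : Γ(X, U)}
    (hx : x ∈ nonZeroDivisors Γ(X, U)) (hD : D.ideal ⟨U, hU⟩ = Ideal.span {x}) :
    X.basicOpen g ∈ Good D := by
  refine ⟨hU.basicOpen g, (X.presheaf.map (homOfLE (X.basicOpen_le g)).op).hom x,
    res_mem_nonZeroDivisors hU g hx, ?_⟩
  show D.ideal (X.affineBasicOpen (U := ⟨U, hU⟩) g) = _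
  rw [← D.map_ideal_basicOpen ⟨U, hU⟩ g, hD, Ideal.map_span, Set.image_singleton]

theorem isBasis_good {D : X.IdealSheafData} (hD : BlowUp.IsEffCartierIdeal D) : Opens.IsBasis (Good D) := by
  rw [Opens.isBasis_iff_nbhd]
  intro V p hp
  obtain ⟨U, hpU, x, hx, hU⟩ := hD p
  obtain ⟨g, hg, hpg⟩ := U.2.exists_basicOpen_le (V := V) ⟨p, hp⟩ hpU
  exact ⟨X.basicOpen g, basicOpen_mem_good U.2 g hx hU, hpg, hg⟩

/-- A non-zero-divisor acts injectively on sections of a bundle. -/
theorem eq_zero_of_smul {M : X.Modules} (hM : FlatMod.IsFinLocFree M) {U : X.Opens} (hU : IsAffineOpen U)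
    {x : Γ(X, U)} (hx : x ∈ nonZeroDivisors Γ(X, U)) (y : Γ(M, U)) (h : x • y = 0) : y = 0 := by
  refine QCoh.eq_zero_of_locally (M := M) U y fun p hp => ?_
  obtain ⟨U₀, n, hp₀, ⟨e⟩⟩ := hM p
  obtain ⟨b, hb⟩ := TopDiff.exists_bases e
  obtain ⟨g, hg, hpg⟩ := hU.exists_basicOpen_le (V := U₀) ⟨p, hp₀⟩ hp
  refine ⟨X.basicOpen g, homOfLE (X.basicOpen_le g), hpg, ?_⟩
  obtain ⟨c, hc⟩ := (hb (X.basicOpen g) hg).2 (resL M (X.basicOpen_le g) y)
  have h1 : (X.presheaf.map (homOfLE (X.basicOpen_le g)).op).hom x • resL M (X.basicOpen_le g) y = 0 := by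
    rw [← LinearMap.map_smulₛₗ, h, map_zero]
  have h2 : (fun i => (X.presheaf.map (homOfLE (X.basicOpen_le g)).op).hom x * c i) = 0 := by
    refine (hb (X.basicOpen g) hg).1 ?_
    simp only [Pi.zero_apply, zero_smul, Finset.sum_const_zero, mul_smul]
    rw [← Finset.smul_sum]
    exact (congrArg _ hc).trans h1
  have h3 : c = 0 := funext fun i =>
    (res_mem_nonZeroDivisors hU g hx).1 _ (congrFun h2 i)
  refine hc.symm.trans ?_
  simp only [h3, Pi.zero_apply, zero_smul, Finset.sum_const_zero]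

theorem eq_zero_of_pow_smul {M : X.Modules} (hM : FlatMod.IsFinLocFree M) {U : X.Opens} (hU : IsAffineOpen U)
    {x : Γ(X, U)} (hx : x ∈ nonZeroDivisors Γ(X, U)) (n : ℕ) (y : Γ(M, U)) (h : x ^ n • y = 0) : y = 0 :=
  eq_zero_of_smul hM hU (pow_mem hx n) y h

/-- Subobjects with the same sections are isomorphic over the ambient module. -/
theorem exists_iso_of_range_eq {A B Z : X.Modules} (a : A ⟶ Z) (b : B ⟶ Z) [Mono a] [Mono b]
    {S : Set X.Opens} (hS : Opens.IsBasis S)
    (h : ∀ U ∈ S, ∀ z, (∃ s, appL a U s = z) ↔ ∃ t, appL b U t = z) :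
    ∃ e : A ≅ B, e.hom ≫ b = a := by
  have key : ∀ {A B : X.Modules} (a : A ⟶ Z) (b : B ⟶ Z) [Mono b],
      (∀ U ∈ S, ∀ s, ∃ t, appL b U t = appL a U s) → ∃ l : A ⟶ B, l ≫ b = a := by
    intro A B a b _ hab
    have h0 : a ≫ cokernel.π b = 0 := ExtPowSh.hom_eq_zero_of_isBasis _ hS fun U hU s => by
      obtain ⟨t, ht⟩ := hab U hU s
      show appL (cokernel.π b) U (appL a U s) = 0
      rw [← ht]
      exact congrArg (fun φ : B ⟶ cokernel b => appL φ U t) (cokernel.condition b)
    exact ⟨Abelian.monoLift b a h0, Abelian.monoLift_comp b a h0⟩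
  obtain ⟨l, hl⟩ := key a b fun U hU s => (h U hU _).1 ⟨s, rfl⟩
  obtain ⟨m, hm⟩ := key b a fun U hU s => (h U hU _).2 ⟨s, rfl⟩
  exact ⟨⟨l, m, by rw [← cancel_mono a, Category.assoc, hm, hl, Category.id_comp],
    by rw [← cancel_mono b, Category.assoc, hl, hm, Category.id_comp]⟩, hl⟩

/-- Epimorphisms with the same kernel on sections are isomorphic under the source. -/
theorem nonempty_iso_of_ker_eq {W A B : X.Modules} (a : W ⟶ A) (b : W ⟶ B) [Epi a] [Epi b]
    {S : Set X.Opens} (hS : Opens.IsBasis S)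
    (h : ∀ U ∈ S, ∀ w, appL a U w = 0 ↔ appL b U w = 0) : Nonempty (A ≅ B) := by
  have key : ∀ {A B : X.Modules} (a : W ⟶ A) (b : W ⟶ B) [Epi a],
      (∀ U ∈ S, ∀ w, appL a U w = 0 → appL b U w = 0) → ∃ l : A ⟶ B, a ≫ l = b := by
    intro A B a b _ hab
    have h0 : kernel.ι a ≫ b = 0 := ExtPowSh.hom_eq_zero_of_isBasis _ hS fun U hU w =>
      hab U hU _ (congrArg (fun φ : kernel a ⟶ A => appL φ U w) (kernel.condition a))
    exact ⟨Abelian.epiDesc a b h0, Abelian.comp_epiDesc a b h0⟩
  obtain ⟨l, hl⟩ := key a b fun U hU w => (h U hU w).1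
  obtain ⟨m, hm⟩ := key b a fun U hU w => (h U hU w).2
  exact ⟨⟨l, m, by rw [← cancel_epi a, ← Category.assoc, hl, hm, Category.comp_id],
    by rw [← cancel_epi b, ← Category.assoc, hm, hl, Category.comp_id]⟩⟩

/-- A section of the structure module as a function. -/
def fn {U : X.Opens} (a : (Coh.structureModule X).val.obj (op U)) : Γ(X, U) := a

/-- Multiplication by powers of the ideal. -/
def powι (D : X.IdealSheafData) : ∀ q : ℕ, CohB1.tensorPow (ClSub.idealMod D) q ⟶ Coh.structureModule X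
  | 0 => 𝟙 _
  | q + 1 => H23.TensorDesc.desc
      { b := fun U a m => fn (appL (powι D q) U a) * OmegaSh.idealSect D U m
        add_left := fun U a a' m => by
          show fn (appL (powι D q) U (a + a')) * _ = _
          rw [map_add]
          exact add_mul _ _ _
        smul_left := fun U r a m => by
          show fn (appL (powι D q) U (r • a)) * _ = _
          rw [map_smul]
          exact mul_assoc r _ _
        add_right := fun U a m m' => by
          show fn _ * OmegaSh.idealSect D U (m + m') = _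
          rw [map_add]
          exact mul_add (R := Γ(X, U)) _ _ _
        smul_right := fun U r a m => by
          show fn _ * OmegaSh.idealSect D U (r • m) = _
          rw [OmegaLib.idealSect_smul]
          exact mul_left_comm _ r _
        res := fun {U V} h a m => by
          show (X.presheaf.map (homOfLE h).op).hom (_ * _) = _ * _
          rw [map_mul, ← OmegaLib.idealSect_map]
          exact congrArg (· * _) (map_appL (powι D q) h a) }

/-- Multiplication `Z ⊗ D^q → Z`. -/
def mulMap (D : X.IdealSheafData) (q : ℕ) (Z : X.Modules) :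
    CohB1.tensorMod Z (CohB1.tensorPow (ClSub.idealMod D) q) ⟶ Z :=
  H23.TensorDesc.desc
    { b := fun U z a => fn (appL (powι D q) U a) • z
      add_left := fun U z z' a => smul_add _ _ _
      smul_left := fun U r z a => smul_comm _ _ _
      add_right := fun U z a a' => by
        show fn (appL (powι D q) U (a + a')) • z = _
        rw [map_add]
        exact add_smul _ _ _
      smul_right := fun U r z a => by
        show fn (appL (powι D q) U (r • a)) • z = _
        rw [map_smul]
        exact mul_smul _ _ _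
      res := fun {U V} h z a => by
        show Z.presheaf.map (homOfLE h).op (fn _ • z) = _
        rw [Scheme.Modules.map_smul]
        exact congrArg (· • _) (map_appL (powι D q) h a) }

theorem mulMap_tmul (D : X.IdealSheafData) (q : ℕ) (Z : X.Modules) (U : X.Opens) (z : Γ(Z, U))
    (a : Γ(CohB1.tensorPow (ClSub.idealMod D) q, U)) :
    (mulMap D q Z).app U (InvX.tmul z a) = fn (appL (powι D q) U a) • z :=
  H23.TensorDesc.desc_tmul _ U z a

/-- A free generator of the sections over `U`. -/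
def IsGen {M : X.Modules} {U : X.Opens} (e : Γ(M, U)) : Prop :=
  Function.Bijective fun r : Γ(X, U) => r • e

theorem bijective_tmul_gen {M N : X.Modules} (hM : Coh.IsQCoh M) (hN : Coh.IsQCoh N) {U : X.Opens}
    (hU : IsAffineOpen U) {e : Γ(N, U)} (he : IsGen e) :
    Function.Bijective (fun t : Γ(M, U) => InvX.tmul t e) := by
  let eb : Γ(X, U) ≃ₗ[Γ(X, U)] Γ(N, U) := LinearEquiv.ofBijective (LinearMap.toSpanSingleton Γ(X, U) Γ(N, U) e) he
  let Φ := ((TensorProduct.rid Γ(X, U) Γ(M, U)).symm.trans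
    (TensorProduct.congr (LinearEquiv.refl _ Γ(M, U)) eb))
  have key : (fun t : Γ(M, U) => InvX.tmul t e) = QCoh.tmLin M N U ∘ Φ := funext fun t => by
    show InvX.tmul t e = QCoh.tmLin M N U (TensorProduct.congr (LinearEquiv.refl _ Γ(M, U)) eb
      ((TensorProduct.rid Γ(X, U) Γ(M, U)).symm t))
    rw [TensorProduct.rid_symm_apply, TensorProduct.congr_tmul, QCoh.tmLin_tmul]
    show InvX.tmul t e = QCoh.tmS M N t ((1 : Γ(X, U)) • e)
    rw [one_smul]
    rfl
  rw [key]
  exact (QCoh.bijective_tmLin hM hN hU).comp Φ.bijective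

theorem isQCoh_pow (D : X.IdealSheafData) : ∀ q : ℕ, Coh.IsQCoh (CohB1.tensorPow (ClSub.idealMod D) q)
  | 0 => QCoh.isQCoh_structureModule
  | q + 1 => CohBasic.isQCoh_tensorMod (isQCoh_pow D q) (PPSheaf.GrCoh.isQCoh_idealMod D)

theorem exists_gen_ideal {D : X.IdealSheafData} {U : X.Opens} (hU : IsAffineOpen U) {x : Γ(X, U)}
    (hx : x ∈ nonZeroDivisors Γ(X, U)) (hD : D.ideal ⟨U, hU⟩ = Ideal.span {x}) :
    ∃ e : Γ(ClSub.idealMod D, U), IsGen e ∧ OmegaSh.idealSect D U e = x := by
  obtain ⟨e, he⟩ := OmegaLib.exists_of_mem D ⟨U, hU⟩ x (by rw [hD]; exact Ideal.mem_span_singleton_self x)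
  refine ⟨e, ⟨fun r r' h => ?_, fun m => ?_⟩, he⟩
  · have h2 := congrArg (OmegaSh.idealSect D U) h
    simp only [OmegaLib.idealSect_smul, he] at h2
    exact (mul_cancel_right_mem_nonZeroDivisors hx).1 h2
  · have h := OmegaLib.idealSect_mem D ⟨U, hU⟩ m
    rw [hD, Ideal.mem_span_singleton'] at h
    obtain ⟨r, hr⟩ := h
    refine ⟨r, OmegaLib.idealSect_injective D U ?_⟩
    show OmegaSh.idealSect D U (r • e) = _
    rw [OmegaLib.idealSect_smul, he]
    exact hr

theorem exists_gen_pow {D : X.IdealSheafData} {U : X.Opens} (hU : IsAffineOpen U) {x : Γ(X, U)}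
    (hx : x ∈ nonZeroDivisors Γ(X, U)) (hD : D.ideal ⟨U, hU⟩ = Ideal.span {x}) :
    ∀ q : ℕ, ∃ e : Γ(CohB1.tensorPow (ClSub.idealMod D) q, U),
      IsGen e ∧ fn (appL (powι D q) U e) = x ^ q
  | 0 => ⟨(show Γ(Coh.structureModule X, U) from (1 : Γ(X, U))),
      ⟨fun r r' h => by
        have h' : r * 1 = r' * 1 := h
        simpa using h', fun m => ⟨m, mul_one (show Γ(X, U) from m)⟩⟩, (pow_zero x).symm⟩
  | q + 1 => by
    obtain ⟨e, he, hex⟩ := exists_gen_pow hU hx hD q
    obtain ⟨m, hm, hmx⟩ := exists_gen_ideal hU hx hD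
    refine ⟨InvX.tmul e m, ?_, ?_⟩
    · have h := (bijective_tmul_gen (isQCoh_pow D q) (PPSheaf.GrCoh.isQCoh_idealMod D) hU hm).comp he
      have h2 : (fun r : Γ(X, U) => r • InvX.tmul e m) = (fun t => InvX.tmul t m) ∘ fun r => r • e :=
        funext fun r => (InvX.tmul_smul_left r e m).symm
      show Function.Bijective _
      rw [h2]
      exact h
    · refine (H23.TensorDesc.desc_tmul _ U e m).trans ?_
      show fn (appL (powι D q) U e) * OmegaSh.idealSect D U m = _
      rw [hex, hmx, pow_succ]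

/-- The sections of the unit to a closed subscheme. -/
theorem unit_sections {D : X.IdealSheafData} {U : X.Opens} (hU : IsAffineOpen U) {x : Γ(X, U)}
    (hD : D.ideal ⟨U, hU⟩ = Ideal.span {x}) {G : X.Modules} (hG : Coh.IsQCoh G) :
    Function.Surjective (((Scheme.Modules.pullbackPushforwardAdjunction D.subschemeι).unit.app G).app U) ∧
      ∀ s : Γ(G, U), ((Scheme.Modules.pullbackPushforwardAdjunction D.subschemeι).unit.app G).app U s = 0 ↔
        ∃ t : Γ(G, U), x • t = s := by
  refine ⟨(QCoh.unit_app_closed D.subschemeι hG hU).1, fun s => ?_⟩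
  rw [(QCoh.unit_app_closed D.subschemeι hG hU).2 s, Scheme.IdealSheafData.ker_subschemeι, hD,
    Submodule.ideal_span_singleton_smul]
  exact ⟨fun ⟨t, _, ht⟩ => ⟨t, ht⟩, fun ⟨t, ht⟩ => ⟨t, trivial, ht⟩⟩

end Groth.Agent.KoszDiv
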