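import Groth.Agent.KoszDiv.SameTwist
import Groth.Agent.AmpleVan.Criterion

/-!
# Koszul complexes of twisted cosections
-/

set_option linter.style.haveILetI false
set_option linter.unusedSectionVars false
set_option backward.isDefEq.respectTransparency false
set_option backward.isDefEq.respectTransparency.types false
set_option maxHeartbeats 800000
set_option autoImplicit false

universe u

open CategoryTheory CategoryTheory.Limits AlgebraicGeometry TopologicalSpace Opposite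

noncomputable section

namespace Groth.Agent.KoszDiv.Twist

open KoszShX (D_ιMulti)

variable {X : Scheme.{u}}

/-- Affine opens on which an invertible module has a generator. -/
def GoodL (L : X.Modules) : Set X.Opens := {U | IsAffineOpen U ∧ ∃ l : Γ(L, U), IsGen l}

theorem isGen_res {L : X.Modules} {U V : X.Opens} {e : Γ(L, U)} (he : InvX.IsFrame e) (h : V ≤ U) :
    IsGen (AModX.res L h e) := he V h

theorem isBasis_goodL {L : X.Modules} (hL : PicF.IsInvertible L) : Opens.IsBasis (GoodL L) := by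
  rw [Opens.isBasis_iff_nbhd]
  intro V p hp
  obtain ⟨U₀, hpU₀, e, he⟩ := InvX.exists_frame hL p
  obtain ⟨_, ⟨U, hU, rfl⟩, hpU, hle⟩ :=
    X.isBasis_affineOpens.exists_subset_of_mem_open (show p ∈ V ⊓ U₀ from ⟨hp, hpU₀⟩) (V ⊓ U₀).2
  exact ⟨U, ⟨hU, _, isGen_res he ((show U ≤ V ⊓ U₀ from hle).trans inf_le_right)⟩, hpU,
    fun q hq => (hle hq).1⟩

theorem isQCoh_tensorPow {L : X.Modules} (hL : Coh.IsQCoh L) : ∀ q : ℕ, Coh.IsQCoh (CohB1.tensorPow L q)
  | 0 => QCoh.isQCoh_structureModule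
  | q + 1 => CohBasic.isQCoh_tensorMod (isQCoh_tensorPow hL q) hL

theorem isGen_tprod {L : X.Modules} (hL : Coh.IsQCoh L) {U : X.Opens} (hU : IsAffineOpen U) {l : Γ(L, U)}
    (hl : IsGen l) : ∀ q : ℕ, IsGen (KoszTw.tprod L q U fun _ => l)
  | 0 => isGen_oneS U
  | q + 1 => by
    have h := (bijective_tmul_gen (isQCoh_tensorPow hL q) hL hU hl).comp (isGen_tprod hL hU hl q)
    show Function.Bijective fun r : Γ(X, U) => r • InvX.tmul (KoszTw.tprod L q U fun _ => l) l
    rw [show (fun r : Γ(X, U) => r • InvX.tmul (KoszTw.tprod L q U fun _ => l) l) =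
      (fun t => InvX.tmul t l) ∘ fun r => r • KoszTw.tprod L q U fun _ => l from
      funext fun r => (InvX.tmul_smul_left r _ l).symm]
    exact h

theorem secL_tensorMap {M M' N N' : X.Modules} (f : M ⟶ M') (g : N ⟶ N') (U : X.Opens) (c : Γ(M, U))
    (e : Γ(N, U)) : secL (KoszTw.tensorMap f g) U (InvX.tmul c e) = InvX.tmul (secL f U c) (secL g U e) :=
  KoszTw.tensorMap_tmul f g U c e

/-- Tensoring with a fixed section. -/
def tmulR {M N : X.Modules} {U : X.Opens} (e : Γ(N, U)) : Γ(M, U) →ₗ[Γ(X, U)] Γ(CohB1.tensorMod M N, U) where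
  toFun t := InvX.tmul t e
  map_add' a b := by
    have h := map_add (QCoh.tmLin M N U) (TensorProduct.tmul Γ(X, U) a e) (TensorProduct.tmul Γ(X, U) b e)
    rw [← TensorProduct.add_tmul, QCoh.tmLin_tmul, QCoh.tmLin_tmul, QCoh.tmLin_tmul] at h
    exact h
  map_smul' r a := InvX.tmul_smul_left r a e

variable {F L : X.Modules} {s : F ⟶ Coh.structureModule X} {t : CohB1.tensorMod F L ⟶ Coh.structureModule X}

/-- The wedge of the twists by `l`. -/
def P (C : KoszSh.Cx F s) (D : KoszSh.Cx (CohB1.tensorMod F L) t) (U : X.affineOpens) (l : Γ(L, U.1)) (p : ℕ) :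
    Γ(C.K.X p, U.1) →ₗ[Γ(X, U.1)] Γ(D.K.X p, U.1) :=
  (D.loc p U).symm.toLinearMap.comp ((exteriorPower.map p (tmulR (M := F) l)).comp (C.loc p U).toLinearMap)

theorem P_ιMulti (C : KoszSh.Cx F s) (D : KoszSh.Cx (CohB1.tensorMod F L) t) (U : X.affineOpens)
    (l : Γ(L, U.1)) (p : ℕ) (f : Fin p → Γ(F, U.1)) :
    P C D U l p ((C.loc p U).symm (exteriorPower.ιMulti _ p f)) =
      (D.loc p U).symm (exteriorPower.ιMulti _ p fun i => InvX.tmul (f i) l) := by
  show (D.loc p U).symm (exteriorPower.map p (tmulR (M := F) l) (C.loc p U ((C.loc p U).symm _))) = _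
  rw [LinearEquiv.apply_symm_apply, exteriorPower.map_apply_ιMulti]
  rfl

theorem P_bijective (hF : Coh.IsQCoh F) (hL : Coh.IsQCoh L) (C : KoszSh.Cx F s)
    (D : KoszSh.Cx (CohB1.tensorMod F L) t) (U : X.affineOpens) {l : Γ(L, U.1)} (hl : IsGen l) (p : ℕ) :
    Function.Bijective (P C D U l p) := by
  let e : Γ(F, U.1) ≃ₗ[Γ(X, U.1)] Γ(CohB1.tensorMod F L, U.1) :=
    LinearEquiv.ofBijective (tmulR l) (bijective_tmul_gen hF hL U.2 hl)
  have hb : Function.Bijective (exteriorPower.map p e.toLinearMap) := by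
    refine Function.bijective_iff_has_inverse.2 ⟨exteriorPower.map p e.symm.toLinearMap, fun x => ?_, fun x => ?_⟩
    · show ((exteriorPower.map p e.symm.toLinearMap).comp (exteriorPower.map p e.toLinearMap)) x = x
      rw [← exteriorPower.map_comp, LinearEquiv.comp_coe, LinearEquiv.self_trans_symm, LinearEquiv.refl_toLinearMap,
        exteriorPower.map_id]
      rfl
    · show ((exteriorPower.map p e.toLinearMap).comp (exteriorPower.map p e.symm.toLinearMap)) x = x
      rw [← exteriorPower.map_comp, LinearEquiv.comp_coe, LinearEquiv.symm_trans_self, LinearEquiv.refl_toLinearMap,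
        exteriorPower.map_id]
      rfl
  exact ((D.loc p U).symm.bijective.comp hb).comp (C.loc p U).bijective

theorem hom_ext_loc (C : KoszSh.Cx F s) (U : X.affineOpens) (p : ℕ) {M : Type u} [AddCommGroup M]
    [Module Γ(X, U.1) M] {φ ψ : Γ(C.K.X p, U.1) →ₗ[Γ(X, U.1)] M}
    (h : ∀ f, φ ((C.loc p U).symm (exteriorPower.ιMulti _ p f)) = ψ ((C.loc p U).symm (exteriorPower.ιMulti _ p f))) :
    φ = ψ := by
  refine LinearMap.ext fun z => ?_
  obtain ⟨w, rfl⟩ := (C.loc p U).symm.surjective z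
  exact LinearMap.congr_fun (exteriorPower.linearMap_ext (f := φ.comp (C.loc p U).symm.toLinearMap)
    (g := ψ.comp (C.loc p U).symm.toLinearMap) (AlternatingMap.ext h)) w

/-- The differential of the twisted complex. -/
theorem smul_d_P {U : X.affineOpens} {l : Γ(L, U.1)} (hl : IsGen l) {lam : Coh.structureModule X ⟶ L}
    {a : Γ(X, U.1)} (ha : secL lam U.1 (oneS U.1) = a • l) (htri : KoszTw.TwistTriangle s lam t)
    (C : KoszSh.Cx F s) (D : KoszSh.Cx (CohB1.tensorMod F L) t) (p : ℕ) (y : Γ(C.K.X (p + 1), U.1)) :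
    a • secL (D.K.d (p + 1) p) U.1 (P C D U l (p + 1) y) = P C D U l p (secL (C.K.d (p + 1) p) U.1 y) := by
  refine LinearMap.congr_fun (hom_ext_loc C U (p + 1)
    (φ := a • (secL (D.K.d (p + 1) p) U.1).comp (P C D U l (p + 1)))
    (ψ := (P C D U l p).comp (secL (C.K.d (p + 1) p) U.1)) fun f => ?_) y
  have hs : ∀ x : Γ(F, U.1), a * KoszSh.secForm t U.1 (InvX.tmul x l) = KoszSh.secForm s U.1 x := fun x => by
    refine hl.1 ?_
    have h1 : secL lam U.1 (secL t U.1 (InvX.tmul x l)) = KoszSh.secForm s U.1 x • l := htri U.1 x l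
    have h2 : secL t U.1 (InvX.tmul x l) = KoszSh.secForm t U.1 (InvX.tmul x l) • oneS U.1 :=
      (mul_one (show Γ(X, U.1) from secL t U.1 (InvX.tmul x l))).symm
    show (a * _) • l = _ • l
    rw [mul_comm, mul_smul, ← ha, ← h1, h2, map_smul]
  show a • secL (D.K.d (p + 1) p) U.1 (P C D U l (p + 1) _) = P C D U l p _
  rw [P_ιMulti, show secL (D.K.d (p + 1) p) U.1 ((D.loc (p + 1) U).symm (exteriorPower.ιMulti _ (p + 1)
      fun i => InvX.tmul (f i) l)) = _ from D.rule p U _,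
    show secL (C.K.d (p + 1) p) U.1 ((C.loc (p + 1) U).symm (exteriorPower.ιMulti _ (p + 1) f)) = _ from C.rule p U f]
  simp only [KoszSh.dGen, map_sum, map_smul, P_ιMulti, Finset.smul_sum]
  refine Finset.sum_congr rfl fun i _ => ?_
  rw [smul_smul, ← hs (f i)]
  congr 1
  ring

theorem secL_iso_P {U : X.affineOpens} (l : Γ(L, U.1)) (C : KoszSh.Cx F s)
    (D : KoszSh.Cx (CohB1.tensorMod F L) t) (p : ℕ) (θ : KoszTw.CxDecData C D p) (y : Γ(C.K.X p, U.1)) :
    secL θ.iso.hom U.1 (P C D U l p y) = InvX.tmul y (KoszTw.tprod L p U.1 fun _ => l) := by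
  refine LinearMap.congr_fun (hom_ext_loc C U p
    (φ := (secL θ.iso.hom U.1).comp (P C D U l p))
    (ψ := tmulR (KoszTw.tprod L p U.1 fun _ => l)) fun f => ?_) y
  show secL θ.iso.hom U.1 (P C D U l p _) = _
  rw [P_ιMulti]
  exact θ.rule U f fun _ => l

theorem isFinLocFree_X {E : X.Modules} (hE : FlatMod.IsFinLocFree E) {r : E ⟶ Coh.structureModule X}
    (C : KoszSh.Cx E r) (p : ℕ) : FlatMod.IsFinLocFree (C.K.X p) :=
  ExtPowSh.isFinLocFree_of_isExtPow hE (C.isExtPow p)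

theorem mem_nzd_of_mono {lam : Coh.structureModule X ⟶ L} [Mono lam] {U : X.Opens} {l : Γ(L, U)} {a : Γ(X, U)}
    (ha : secL lam U (oneS U) = a • l) : a ∈ nonZeroDivisors Γ(X, U) := by
  have key : ∀ r : Γ(X, U), r * a = 0 → r = 0 := fun r hr => by
    have h : secL lam U (r • oneS U) = secL lam U 0 := by
      rw [map_smul, ha, smul_smul, hr, zero_smul, map_zero]
    have h2 : r * 1 = 0 := secL_injective lam U h
    rwa [mul_one] at h2
  exact ⟨fun r hr => key r (by rwa [mul_comm]), key⟩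

theorem kernelSubobject_le_of_sections {A B B' : X.Modules} (f : A ⟶ B) (g : A ⟶ B') {S : Set X.Opens}
    (hS : Opens.IsBasis S) (h : ∀ U ∈ S, ∀ z : Γ(A, U), secL f U z = 0 → secL g U z = 0) :
    kernelSubobject f ≤ kernelSubobject g := by
  refine le_kernelSubobject _ _ (ExtPowSh.hom_eq_zero_of_isBasis _ hS fun U hU w => ?_)
  refine h U hU (secL (kernelSubobject f).arrow U w) ?_
  exact congrArg (fun φ : _ ⟶ B => secL φ U w) (kernelSubobject_arrow_comp f)

theorem kernelSubobject_eq (hF : FlatMod.IsFinLocFree F) (hL : PicF.IsInvertible L)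
    (lam : Coh.structureModule X ⟶ L) [Mono lam] (htri : KoszTw.TwistTriangle s lam t)
    (C : KoszSh.Cx F s) (D : KoszSh.Cx (CohB1.tensorMod F L) t) (q : ℕ) (θ : KoszTw.CxDecData C D (q + 1)) :
    kernelSubobject (θ.iso.hom ≫ KoszTw.tensorMap (C.K.d (q + 1) q) (𝟙 (CohB1.tensorPow L (q + 1)))) =
      kernelSubobject (D.K.d (q + 1) q) := by
  have hLf : FlatMod.IsFinLocFree L := H23.PullPush.isFinLocFree_of_isInvertible hL
  have hLq := QCoh.isQCoh_of_isFinLocFree hLf
  have hFq := QCoh.isQCoh_of_isFinLocFree hF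
  have hXf : FlatMod.IsFinLocFree (D.K.X q) := isFinLocFree_X (KFlatLib.isFinLocFree_tensor hF hLf) D q
  have key : ∀ U ∈ GoodL L, ∀ z : Γ(D.K.X (q + 1), U),
      secL (θ.iso.hom ≫ KoszTw.tensorMap (C.K.d (q + 1) q) (𝟙 (CohB1.tensorPow L (q + 1)))) U z = 0 ↔
        secL (D.K.d (q + 1) q) U z = 0 := by
    rintro U ⟨hU, l, hl⟩ z
    obtain ⟨a, ha⟩ : ∃ a : Γ(X, U), secL lam U (oneS U) = a • l :=
      (hl.2 (secL lam U (oneS U))).imp fun _ h => h.symm
    obtain ⟨y, rfl⟩ := (P_bijective hFq hLq C D ⟨U, hU⟩ hl (q + 1)).2 z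
    have h1 : secL (θ.iso.hom ≫ KoszTw.tensorMap (C.K.d (q + 1) q) (𝟙 (CohB1.tensorPow L (q + 1)))) U
        (P C D ⟨U, hU⟩ l (q + 1) y) = tmulR (KoszTw.tprod L (q + 1) U fun _ => l) (secL (C.K.d (q + 1) q) U y) :=
      (congrArg (secL (KoszTw.tensorMap (C.K.d (q + 1) q) (𝟙 _)) U)
        (secL_iso_P (U := ⟨U, hU⟩) l C D (q + 1) θ y)).trans (secL_tensorMap _ _ U _ _)
    rw [h1]
    have hd := smul_d_P (U := ⟨U, hU⟩) hl ha htri C D q y
    constructor
    · intro h
      have h0 : secL (C.K.d (q + 1) q) U y = 0 :=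
        (bijective_tmul_gen (QCoh.isQCoh_of_isFinLocFree (isFinLocFree_X hF C q)) (isQCoh_tensorPow hLq (q + 1))
          hU (isGen_tprod hLq hU hl (q + 1))).1 (h.trans (map_zero (tmulR _)).symm)
      refine eq_zero_of_smul hXf hU (mem_nzd_of_mono ha) _ (hd.trans ?_)
      show P C D ⟨U, hU⟩ l q (secL (C.K.d (q + 1) q) U y) = 0
      rw [h0, map_zero]
    · intro h
      have h0 : P C D ⟨U, hU⟩ l q (secL (C.K.d (q + 1) q) U y) = 0 := by
        refine hd.symm.trans ?_
        show a • secL (D.K.d (q + 1) q) U (P C D ⟨U, hU⟩ l (q + 1) y) = 0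
        rw [h, smul_zero]
      rw [(P_bijective hFq hLq C D ⟨U, hU⟩ hl q).1 (h0.trans (map_zero _).symm), map_zero]
  exact le_antisymm (kernelSubobject_le_of_sections _ _ (isBasis_goodL hL) fun U hU z => (key U hU z).1)
    (kernelSubobject_le_of_sections _ _ (isBasis_goodL hL) fun U hU z => (key U hU z).2)

theorem imageSubobject_le_of_sections {A A' B : X.Modules} (f : A ⟶ B) (g : A' ⟶ B) {S : Set X.Opens}
    (hS : Opens.IsBasis S) (h : ∀ U ∈ S, ∀ z : Γ(A, U), ∃ z', secL g U z' = secL f U z) :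
    imageSubobject f ≤ imageSubobject g := by
  have h0 : f ≫ cokernel.π (imageSubobject g).arrow = 0 :=
    ExtPowSh.hom_eq_zero_of_isBasis _ hS fun U hU z => by
      obtain ⟨z', hz'⟩ := h U hU z
      show secL (cokernel.π (imageSubobject g).arrow) U (secL f U z) = 0
      rw [← hz']
      have hg : g ≫ cokernel.π (imageSubobject g).arrow = 0 := by
        refine (congrArg (fun φ : A' ⟶ B => φ ≫ cokernel.π (imageSubobject g).arrow)
          (imageSubobject_arrow_comp g).symm).trans ?_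
        rw [Category.assoc, cokernel.condition, comp_zero]
      exact congrArg (fun φ : A' ⟶ _ => secL φ U z') hg
  exact imageSubobject_le f (Abelian.monoLift (imageSubobject g).arrow f h0)
    (Abelian.monoLift_comp (imageSubobject g).arrow f h0)

theorem secL_unitorR_inv (M : X.Modules) (U : X.Opens) (z : Γ(M, U)) :
    secL (SecTwist.unitorR M).inv U z = InvX.tmul z (oneS U) := by
  have h := SecTwist.unitorR_tmul M U z 1
  refine Eq.trans (congrArg (secL (SecTwist.unitorR M).inv U) (?_ : z = secL (SecTwist.unitorR M).hom U (InvX.tmul z (oneS U)))) ?_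
  · exact ((h.trans (one_smul Γ(X, U) z))).symm
  · exact congrArg (fun φ : _ ⟶ _ => secL φ U (InvX.tmul z (oneS U))) (SecTwist.unitorR M).hom_inv_id

theorem imageSubobject_eq (hF : FlatMod.IsFinLocFree F) (hL : PicF.IsInvertible L)
    (lam : Coh.structureModule X ⟶ L) (htri : KoszTw.TwistTriangle s lam t)
    (C : KoszSh.Cx F s) (D : KoszSh.Cx (CohB1.tensorMod F L) t) (q : ℕ) (θ : KoszTw.CxDecData C D q) :
    imageSubobject (KoszTw.tensorMap (KoszTw.tensorMap (C.K.d (q + 1) q) (𝟙 (CohB1.tensorPow L q))) (𝟙 L)) =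
      imageSubobject ((SecTwist.unitorR (D.K.X (q + 1))).inv ≫ KoszTw.tensorMap (D.K.d (q + 1) q) lam ≫
        KoszTw.tensorMap θ.iso.hom (𝟙 L)) := by
  let f := KoszTw.tensorMap (KoszTw.tensorMap (C.K.d (q + 1) q) (𝟙 (CohB1.tensorPow L q))) (𝟙 L)
  let g := (SecTwist.unitorR (D.K.X (q + 1))).inv ≫ KoszTw.tensorMap (D.K.d (q + 1) q) lam ≫
    KoszTw.tensorMap θ.iso.hom (𝟙 L)
  have hLf : FlatMod.IsFinLocFree L := H23.PullPush.isFinLocFree_of_isInvertible hL
  have hLq := QCoh.isQCoh_of_isFinLocFree hLf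
  have hFq := QCoh.isQCoh_of_isFinLocFree hF
  have hCq := QCoh.isQCoh_of_isFinLocFree (isFinLocFree_X hF C (q + 1))
  have key : ∀ U (hU : IsAffineOpen U) (l : Γ(L, U)), IsGen l → ∀ y : Γ(C.K.X (q + 1), U),
      secL g U (P C D ⟨U, hU⟩ l (q + 1) y) =
        secL f U (InvX.tmul (InvX.tmul y (KoszTw.tprod L q U fun _ => l)) l) := by
    intro U hU l hl y
    obtain ⟨a, ha⟩ : ∃ a : Γ(X, U), secL lam U (oneS U) = a • l :=
      (hl.2 (secL lam U (oneS U))).imp fun _ h => h.symm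
    have hd := smul_d_P (U := ⟨U, hU⟩) hl ha htri C D q y
    show secL (KoszTw.tensorMap θ.iso.hom (𝟙 L)) U (secL (KoszTw.tensorMap (D.K.d (q + 1) q) lam) U
      (secL (SecTwist.unitorR (D.K.X (q + 1))).inv U (P C D ⟨U, hU⟩ l (q + 1) y))) = _
    rw [secL_unitorR_inv, secL_tensorMap, secL_tensorMap, ha]
    show InvX.tmul _ (a • l) = secL f U _
    rw [InvX.tmul_smul_right, ← InvX.tmul_smul_left, ← map_smul,
      show a • secL (D.K.d (q + 1) q) U (P C D ⟨U, hU⟩ l (q + 1) y) = _ from hd,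
      show secL θ.iso.hom U (P C D ⟨U, hU⟩ l q (secL (C.K.d (q + 1) q) U y)) = _ from
        secL_iso_P (U := ⟨U, hU⟩) l C D q θ _,
      secL_tensorMap, secL_tensorMap]
    rfl
  refine le_antisymm (imageSubobject_le_of_sections f g (isBasis_goodL hL) ?_)
    (imageSubobject_le_of_sections g f (isBasis_goodL hL) ?_)
  · rintro U ⟨hU, l, hl⟩ z
    obtain ⟨u, rfl⟩ := (bijective_tmul_gen (CohBasic.isQCoh_tensorMod hCq (isQCoh_tensorPow hLq q)) hLq hU hl).2 z
    obtain ⟨y, rfl⟩ := (bijective_tmul_gen hCq (isQCoh_tensorPow hLq q) hU (isGen_tprod hLq hU hl q)).2 u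
    exact ⟨_, key U hU l hl y⟩
  · rintro U ⟨hU, l, hl⟩ z
    obtain ⟨y, rfl⟩ := (P_bijective hFq hLq C D ⟨U, hU⟩ hl (q + 1)).2 z
    exact ⟨_, (key U hU l hl y).symm⟩

end Groth.Agent.KoszDiv.Twist
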